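import Groth.Agent.H82.Reduced.Frame
import Groth.Agent.H1.Classical.RadUApply
import Groth.Agent.H1.Classical.CentralTorusRed
import Groth.Agent.H1.Classical.RedFibre

/-!
# Simple factors of a faithful representation of a reductive group
-/

set_option autoImplicit false
set_option linter.style.haveILetI false

universe u v

open CategoryTheory MonoidalCategory CartesianMonoidalCategory MonObj GrpObj AlgebraicGeometry

namespace Groth.Agent.H82.Reduced

section Rep

variable {k : Type u} [Field k] {Γ : Type v} [Group Γ]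

/-- A bundled representation with regular coefficients which is simple. -/
structure SFac (R : Subalgebra k (Γ → k)) where
  W : Type u
  [acg : AddCommGroup W]
  [mod : Module k W]
  [fin : FiniteDimensional k W]
  [nt : Nontrivial W]
  σ : Representation k Γ W
  reg : ∀ (x : W) (l : Module.Dual k W), (fun g => l (σ g x)) ∈ R
  simple : Simple σ

attribute [instance] SFac.acg SFac.mod SFac.fin SFac.nt

/-- Composition factors: what they kill is unipotent. -/
theorem exists_factors (R : Subalgebra k (Γ → k)) :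
    ∀ (d : ℕ) (V : Type u) [AddCommGroup V] [Module k V] [FiniteDimensional k V] (ρ : Representation k Γ V),
      Module.finrank k V ≤ d → (∀ (x : V) (l : Module.Dual k V), (fun g => l (ρ g x)) ∈ R) →
      ∃ (J : Type) (_ : Finite J) (F : J → SFac R),
        ∀ H : Subgroup Γ, (∀ h ∈ H, ∀ i, (F i).σ h = 1) →
          ∃ n : ℕ, (∀ h ∈ H, (ρ h - 1) ^ n = 0) ∧ ∀ h ∈ derivedSeries H n, ρ (h : Γ) = 1 := by
  classical
  intro d
  induction d with
  | zero =>
    intro V _ _ _ ρ hd _
    haveI : Subsingleton V := Module.finrank_zero_iff.1 (Nat.le_zero.1 hd)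
    exact ⟨PEmpty, inferInstance, PEmpty.elim, fun H _ =>
      ⟨1, fun h _ => LinearMap.ext fun x => Subsingleton.elim _ _, fun h _ => LinearMap.ext fun x => Subsingleton.elim _ _⟩⟩
  | succ d ih =>
    intro V _ _ _ ρ hd hR
    by_cases h0 : Subsingleton V
    · exact ⟨PEmpty, inferInstance, PEmpty.elim, fun H _ =>
        ⟨1, fun h _ => LinearMap.ext fun x => Subsingleton.elim _ _,
          fun h _ => LinearMap.ext fun x => Subsingleton.elim _ _⟩⟩
    haveI : Nontrivial V := not_subsingleton_iff_nontrivial.1 h0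
    by_cases hs : Simple ρ
    · refine ⟨PUnit, inferInstance, fun _ => ⟨V, ρ, hR, hs⟩, fun H hH => ⟨1, fun h hh => ?_, fun h hh => ?_⟩⟩
      · rw [pow_one, hH h hh PUnit.unit, sub_self]
      · exact hH _ h.2 PUnit.unit
    rw [Simple] at hs
    push Not at hs
    obtain ⟨U, hst, hbot, htop⟩ := hs
    have hlt : Module.finrank k U < Module.finrank k V := Submodule.finrank_lt htop
    have hpos : 0 < Module.finrank k U := Nat.pos_of_ne_zero fun e => hbot (Submodule.finrank_eq_zero.1 e)
    have hq := Submodule.finrank_quotient_add_finrank U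
    let ρU : Representation k Γ U :=
      { toFun := fun g => (ρ g).restrict (hst g)
        map_one' := LinearMap.ext fun x => Subtype.ext (by simp)
        map_mul' := fun a b => LinearMap.ext fun x => Subtype.ext (by simp) }
    let ρQ : Representation k Γ (V ⧸ U) :=
      { toFun := fun g => U.mapQ U (ρ g) fun x hx => hst g x hx
        map_one' := Submodule.linearMap_qext _ (LinearMap.ext fun x => by simp)
        map_mul' := fun a b => Submodule.linearMap_qext _ (LinearMap.ext fun x => by simp) }
    obtain ⟨J₁, _, F₁, h₁⟩ := ih U ρU (by omega) fun x l => by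
      obtain ⟨l', hl'⟩ := LinearMap.exists_extend l
      convert hR x l' using 1
      funext g
      rw [← hl']
      rfl
    obtain ⟨J₂, _, F₂, h₂⟩ := ih (V ⧸ U) ρQ (by omega) fun x l => by
      obtain ⟨y, rfl⟩ := U.mkQ_surjective x
      convert hR y (l ∘ₗ U.mkQ) using 1
      rfl
    refine ⟨J₁ ⊕ J₂, inferInstance, Sum.elim F₁ F₂, fun H hH => ?_⟩
    obtain ⟨a, ha, ha'⟩ := h₁ H fun h hh i => hH h hh (Sum.inl i)
    obtain ⟨b, hb, hb'⟩ := h₂ H fun h hh i => hH h hh (Sum.inr i)
    have hUpow : ∀ (g : Γ) (m : ℕ) (x : U), (((ρU g - 1) ^ m) x : V) = ((ρ g - 1) ^ m) (x : V) := fun g m => by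
      induction m with
      | zero => intro x; simp
      | succ m ihm => intro x; rw [pow_succ, pow_succ, Module.End.mul_apply, Module.End.mul_apply, ihm]; rfl
    have hQpow : ∀ (g : Γ) (m : ℕ) (x : V), ((ρQ g - 1) ^ m) (U.mkQ x) = U.mkQ (((ρ g - 1) ^ m) x) := fun g m => by
      induction m with
      | zero => intro x; simp
      | succ m ihm => intro x; rw [pow_succ, pow_succ, Module.End.mul_apply, Module.End.mul_apply, ← ihm]; rfl
    refine ⟨a + b + 1, fun h hh => ?_, fun h hh => ?_⟩
    · refine pow_eq_zero_of_le (Nat.le_succ _) (LinearMap.ext fun x => ?_)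
      have hmem : ((ρ h - 1) ^ b) x ∈ U := (Submodule.Quotient.mk_eq_zero U).1 (by
        have := hQpow h b x
        rw [hb h hh, LinearMap.zero_apply] at this
        exact this.symm)
      rw [pow_add, Module.End.mul_apply]
      have := hUpow h a ⟨_, hmem⟩
      rw [ha h hh] at this
      exact this.symm
    · -- elements trivial on both parts commute
      have htriv : ∀ y : H, y ∈ derivedSeries H (a + b) →
          (∀ x ∈ U, ρ (y : Γ) x = x) ∧ ∀ x, ρ (y : Γ) x - x ∈ U := fun y hy => by
        refine ⟨fun x hx => ?_, fun x => ?_⟩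
        · have := ha' y (derivedSeries_antitone H (Nat.le_add_right a b) hy)
          exact congrArg Subtype.val (LinearMap.congr_fun this ⟨x, hx⟩)
        · have := hb' y (derivedSeries_antitone H (Nat.le_add_left b a) hy)
          exact (Submodule.Quotient.eq U).1 (LinearMap.congr_fun this (U.mkQ x))
      let K : Subgroup H :=
        { carrier := {y | ρ (y : Γ) = 1}
          one_mem' := by simp
          mul_mem' := fun {p q} hp hq => by
            show ρ ((p : Γ) * (q : Γ)) = 1
            rw [map_mul, show ρ (p : Γ) = 1 from hp, show ρ (q : Γ) = 1 from hq, _root_.mul_one]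
          inv_mem' := fun {p} hp => by
            show ρ ((p : Γ)⁻¹) = 1
            rw [← _root_.mul_one (ρ ((p : Γ)⁻¹)), ← show ρ (p : Γ) = 1 from hp, ← map_mul, inv_mul_cancel, map_one,
              show ρ (p : Γ) = 1 from hp] }
      have hle : derivedSeries H (a + b + 1) ≤ K := by
        rw [derivedSeries_succ, Subgroup.commutator_le]
        intro p hp q hq
        have hcomm : ρ (p : Γ) * ρ (q : Γ) = ρ (q : Γ) * ρ (p : Γ) := LinearMap.ext fun x => by
          obtain ⟨p1, p2⟩ := htriv p hp
          obtain ⟨q1, q2⟩ := htriv q hq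
          rw [Module.End.mul_apply, Module.End.mul_apply]
          have e1 := p1 _ (q2 x)
          have e2 := q1 _ (p2 x)
          rw [map_sub] at e1 e2
          have e1' := sub_eq_iff_eq_add.1 e1
          have e2' := sub_eq_iff_eq_add.1 e2
          rw [e1', e2']
          abel
        show ρ ((p : Γ) * (q : Γ) * (p : Γ)⁻¹ * (q : Γ)⁻¹) = 1
        rw [map_mul, map_mul, map_mul, hcomm, _root_.mul_assoc (ρ (q : Γ)), ← map_mul ρ (p : Γ), mul_inv_cancel, map_one,
          _root_.mul_one, ← map_mul, mul_inv_cancel, map_one]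
      exact hle hh

end Rep

open Groth.Agent.H1.Classical Groth.Agent.H1.Classical.Scheme' Groth.Agent.Lib.RedPts Groth.Agent.Lib.GrpSch
  Groth.Agent.Lib.RedPts.Points

attribute [local instance] Groth.Agent.Lib.RedPts.Points.baseAlgebra

variable {k : Type u} [Field k] [IsAlgClosed k]

/-- Over an algebraically closed field reductivity of the geometric fibre gives reductivity of the group. -/
theorem isReductiveOver_self {G : Over (Spec (CommRingCat.of k))} [GrpObj G] (hG : Red.IsReductive G) :
    Red.IsReductiveOver k G := by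
  obtain ⟨h1, h2, h3⟩ := CentralTorusRed.reductive_props hG
  haveI := h1
  haveI := h2
  haveI := h3
  refine ⟨h1, h2, h3, fun U _ i _ hc hs hconn hn hU => ?_⟩
  haveI := hc
  haveI := hs
  haveI := hconn
  haveI : IsAffine U.left := isAffine_of_isAffineHom i.left
  let s : Spec (CommRingCat.of k) := IsLocalRing.closedPoint k
  obtain ⟨alg, halg, hσ⟩ := exists_geomPt_eq s
  have hG' : Red.IsReductiveOver _ (Red.bc (Red.geomPt s) G) := hG.2.2 s
  rw [hσ] at hG'
  let K := AlgebraicClosure ((Spec (CommRingCat.of k)).residueField s)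
  obtain ⟨hU1, hU2, hU3⟩ := FieldDescent.bc_props (K := K) U
  haveI := hU1
  haveI := hU2
  haveI := hU3
  haveI : IsClosedImmersion ((Over.pullback (extBase k K)).map i).left :=
    bc_map_left_of (P := @IsClosedImmersion) _ i inferInstance
  refine RadU.isTrivial_of_bc (K := K) (hG'.2.2.2 (Red.bc (extBase k K) U) ((Over.pullback (extBase k K)).map i)
    inferInstance inferInstance inferInstance ?_ (Unipotent.hasNoSubtorus_of_noTorsion
      ((UnipotentRadical.noTorsion_bc_iff (K := K) U).2 (Unipotent.noTorsion_of_hasNoSubtorus hU))))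
  exact (Groth.Agent.H69.NormalDescend.isNormalHom_iff (extBase k K) i).mpr (fun X _ g n => hn X g n)

variable {A : Type u} [CommRing A] [HopfAlgebra k A] [Algebra.FiniteType k A] [IsDomain A]

/-- Some finite family of simple representations of a reductive group has a kernel without curves. -/
theorem exists_simple_family (hG : Red.IsReductiveOver k (GA k A)) :
    ∃ (J : Type) (_ : Finite J) (F : J → SFac (HopfPts.D k A).R),
      ∀ S : Set (HopfPts.Pt k A), (HopfPts.D k A).SIrr S → 1 ∈ S → (∀ g ∈ S, ∀ i, (F i).σ g = 1) →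
        ∀ g ∈ S, g = 1 := by
  obtain ⟨V, _, ρ, hρ, hfaith⟩ := HopfPts.exists_faithful (k := k) (A := A)
  obtain ⟨J, hJ, F, hF⟩ := exists_factors (HopfPts.D k A).R _ V ρ le_rfl hρ
  refine ⟨J, hJ, F, fun S hS h1 hker g hg => ?_⟩
  let K : Subgroup (HopfPts.Pt k A) :=
    { carrier := {g | ∀ i, (F i).σ g = 1}
      one_mem' := fun i => map_one _
      mul_mem' := fun {a b} ha hb i => by rw [map_mul, ha i, hb i, _root_.mul_one]
      inv_mem' := fun {a} ha i => by
        rw [← _root_.mul_one ((F i).σ a⁻¹), ← ha i, ← map_mul, inv_mul_cancel, map_one, ha i] }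
  have hK : (HopfPts.D k A).IsCl K := by
    refine Alg.isCl_of_forall _ {f | ∃ (i : J) (x : (F i).W) (l : Module.Dual k (F i).W),
      f = fun g => l ((F i).σ g x) - l x} ?_ fun g => ⟨?_, fun h i => ?_⟩
    · rintro _ ⟨i, x, l, rfl⟩
      exact Subalgebra.sub_mem _ ((F i).reg x l) (Subalgebra.algebraMap_mem _ (l x))
    · rintro hg _ ⟨i, x, l, rfl⟩
      show l _ - l x = 0
      rw [hg i, Module.End.one_apply, sub_self]
    · refine LinearMap.ext fun x => sub_eq_zero.1 ((Module.forall_dual_apply_eq_zero_iff k _).1 fun l => ?_)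
      rw [map_sub]
      exact h _ ⟨i, x, l, rfl⟩
  obtain ⟨C, hCcl, hCirr, hCmax⟩ := ((HopfPts.D k A).restrict K hK).exists_component
  let C' : Subgroup (HopfPts.Pt k A) := C.map K.subtype
  have hC'cl : (HopfPts.D k A).IsCl C' := Alg.isCl_image _ hCcl
  have hC'irr : (HopfPts.D k A).SIrr C' := (Alg.sirr_restrict _).1 hCirr
  have hmax : ∀ S : Set (HopfPts.Pt k A), (HopfPts.D k A).SIrr S → 1 ∈ S → S ⊆ K → S ⊆ C' := fun S hS h1 hle x hx => by
    have := hCmax (Subtype.val ⁻¹' S) ((Alg.sirr_restrict _).2 (by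
      rwa [Set.image_preimage_eq_inter_range, Subtype.range_coe_subtype,
        show S ∩ {x | x ∈ K} = S from Set.inter_eq_left.2 hle])) h1 (show (⟨x, hle hx⟩ : K) ∈ _ from hx)
    exact ⟨⟨x, hle hx⟩, this, rfl⟩
  have hC'le : ∀ c ∈ C', ∀ i, (F i).σ c = 1 := by
    rintro _ ⟨c, -, rfl⟩ i
    exact c.2 i
  have hconj : ∀ a, ∀ c ∈ C', a * c * a⁻¹ ∈ C' := fun a c hc =>
    hmax ((fun g => a * g * a⁻¹) '' C') (hC'irr.image _ (fun g => a * g * a⁻¹) ((HopfPts.D k A).cTrans a)
      fun f g => (HopfPts.D k A).cTrans_apply a f g) ⟨1, C'.one_mem, by simp⟩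
      (by
        rintro _ ⟨x, hx, rfl⟩ i
        rw [map_mul, map_mul, hC'le x hx i, _root_.mul_one, ← map_mul, mul_inv_cancel, map_one]) ⟨c, hc, rfl⟩
  obtain ⟨n, hnil, hder⟩ := hF C' hC'le
  haveI : Group.IsSolvable C' := (Group.isSolvable_def _).mpr ⟨n, (Subgroup.eq_bot_iff_forall _).2 fun h hh =>
    Subtype.ext (hfaith ((hder h hh).trans (map_one ρ).symm))⟩
  obtain ⟨U, _, c, hc1, hc2, hc3, hc4, -, hfac, hpt⟩ := exists_subgroup C' hC'cl hC'irr
  haveI := hc1
  haveI := hc2
  haveI := hc3
  haveI := hc4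
  haveI : Smooth (GA k A).hom := smooth_GA
  haveI : IsAffine U.left := isAffine_of_isAffineHom c.left
  haveI : Mono c := Over.mono_of_mono_left c
  have hlift : ∀ s ∈ C', ∃ x, x ≫ c = ptHom (𝟙_ _) s := fun s hs => hfac _ _ fun a ha => by
    rw [algHomOf_ptHom, (mem_ideal.1 ha) s hs, map_zero]
  have hno : Unipotent.NoTorsion U := fun x m hm hxm => by
    obtain ⟨s, hs, hxs⟩ := hpt x
    have hsm : s ^ m = 1 := ptHom_injective (by rw [map_pow, ← hxs, ← Unipotent.pow_comp, hxm, MonObj.one_comp, map_one])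
    rw [← cancel_mono c, hxs, MonObj.one_comp, Torus.Cartan.eq_one_of_nilp hfaith hm hsm ⟨n, hnil s hs⟩, map_one]
  have htriv : Red.IsTrivialGrp U := hG.2.2.2 U c hc2 hc3 hc4
    (RadU.isNormalHom_of_pts c fun a w => by
      obtain ⟨s, hs, hws⟩ := hpt w
      obtain ⟨a', rfl⟩ := ptHom_surjective a
      obtain ⟨y, hy⟩ := hlift _ (hconj a' s hs)
      exact ⟨y, by rw [hws, hy, map_mul, map_mul, map_inv]⟩)
    (Unipotent.hasNoSubtorus_of_noTorsion hno)
  haveI : IsIso U.hom := htriv
  obtain ⟨x, hx⟩ := hlift g (hmax S hS h1 hker hg)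
  have hx1 : x = 1 := Over.OverMorphism.ext (by rw [← cancel_mono U.hom, Over.w, Over.w])
  refine ptHom_injective ?_
  rw [map_one, ← hx, hx1, MonObj.one_comp]

end Groth.Agent.H82.Reduced
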