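import Groth.Agent.H82.Reduced.RootFacts
import Groth.Agent.H82.R2.CentRoot
import Groth.Agent.H1.Classical.RedFibre
import Groth.Agent.H1.Classical.FieldDescent
import Groth.Agent.S3918
import Groth.Agent.S8458

/-!
# The centralizer of the singular functional along `±a, ±2a`
-/

set_option autoImplicit false
set_option linter.style.haveILetI false
set_option linter.unusedSectionVars false
universe u

open CategoryTheory MonoidalCategory CartesianMonoidalCategory MonObj GrpObj AlgebraicGeometry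
open Groth.Agent.Lib.RedPts Groth.Agent.H82.BigCell Groth.Agent.H82.Contract
open Groth.Agent.H82.RankOne (P P_eq P_add P_zero P_comp)

namespace Groth.Agent.H82.Reduced

variable {S : Scheme.{u}} {G : Over S} [GrpObj G] {D : Red.SplitRed G}

theorem gmFn_cochar' (l : D.M →+ ℤ) (m : D.M) {X : Over S} (z : X ⟶ Red.Gm S) :
    Red.gmFn ((z ≫ cochar D l) ≫ chr D m) = (((Gm.isUnit_gmFn z).unit ^ l m : Γ(X.left, ⊤)ˣ) : Γ(X.left, ⊤)) := by
  rw [show z = Gm.gmPt (Gm.isUnit_gmFn z).unit from Gm.gmFn_injective (by simp), gmFn_cochar]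
  simp

theorem eq_of_chr {X : Over S} {t t' : X ⟶ D.T} (h : ∀ m, Red.gmFn (t ≫ chr D m) = Red.gmFn (t' ≫ chr D m)) :
    t = t' := by
  have key : ∀ z : X ⟶ D.T, z = (z ≫ D.split.hom.hom.hom) ≫ D.split.inv.hom.hom := fun z => by
    rw [Category.assoc, split_hom_inv, Category.comp_id]
  rw [key t, key t']
  refine congrArg (· ≫ D.split.inv.hom.hom) (Gm.dsFn_ext fun m => ?_)
  simpa only [chr, ← Category.assoc, Gm.gmFn_chi] using h m

theorem mono_gcochar {lam : D.M →+ ℤ} {m : D.M} (hm : lam m = 1) : Mono (gcochar D lam) := by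
  refine ⟨fun {X} z z' h => Gm.gmFn_injective ?_⟩
  simp only [← Category.assoc] at h
  have h1 := congrArg (fun t => Red.gmFn (t ≫ chr D m)) ((cancel_mono D.i).1 h)
  simp only [gmFn_cochar', hm, zpow_one, IsUnit.unit_spec] at h1
  exact h1

theorem commutes_zero {X : Over S} (g : X ⟶ G) : Commutes (gcochar D (0 : D.M →+ ℤ)) g := fun Y f z => by
  have h : z ≫ cochar D (0 : D.M →+ ℤ) = 1 := eq_of_chr fun m => by
    rw [gmFn_cochar', AddMonoidHom.zero_apply, zpow_zero, Units.val_one, MonObj.one_comp, Gm.gmFn_one]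
  rw [← Category.assoc, h, MonObj.one_comp, _root_.one_mul, _root_.mul_one]

/-- The centralizer with reductive geometric fibre. -/
theorem exists_Z_red {lam : D.M →+ ℤ} (hlam : lam = 0 ∨ ∃ m, lam m = 1) (s : S) :
    ∃ (Z : Over S) (_ : GrpObj Z) (j : Z ⟶ G), IsMonHom j ∧ Mono j ∧
      (∀ (X : Over S) (g : X ⟶ G), (∃ z, z ≫ j = g) ↔ Commutes (gcochar D lam) g) ∧
      Red.IsReductive (Red.bc (Red.geomPt s) Z) := by
  have hGr : Red.IsReductive (Red.geomFibre s G) :=
    Groth.Agent.H1.Classical.RedFibre.isReductive_of_isReductiveOver (D.reductive.2.2 s)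
  rcases hlam with rfl | ⟨m, hm⟩
  · exact ⟨G, inferInstance, 𝟙 G, inferInstance, inferInstance,
      fun X g => ⟨fun _ => commutes_zero g, fun _ => ⟨g, Category.comp_id g⟩⟩, hGr⟩
  obtain ⟨Z, hZ, j, hj, hjm, hjc⟩ := R2.Cent.exists_Z (D := D) lam
  refine ⟨Z, hZ, j, hj, hjm, hjc, ?_⟩
  haveI := mono_gcochar hm
  haveI : IsMonHom (gcochar D lam) := by unfold gcochar; infer_instance
  have hcent : Red.IsCentralizerOf (gcochar D lam) j := ⟨hj, hjm, fun X g => (hjc X g).trans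
    ⟨fun h X' x z => (h X' x z).symm, fun h Y f z => (h Y f z).symm⟩⟩
  have hcent' := Groth.Agent.H1.Classical.FieldDescent.isCentralizerOf_bc (Red.geomPt s) hcent
  exact Groth.Agent.S3918.result _ (Red.geomFibre s G) hGr (Red.bc (Red.geomPt s) (Red.Gm S))
    ((Over.pullback (Red.geomPt s)).map (gcochar D lam))
    (Groth.Agent.Lib.Tori.Basic.isTorus_bc (Groth.Agent.Lib.Tori.Basic.isTorus_Gm S) _) _ _ hcent'

/-! ### Products of root elements and the torus -/

theorem conj_prodPts {X : Over S} (t : X ⟶ D.T) : ∀ {n : ℕ} (e : Fin n → D.idx) (x : Fin n → Γ(X.left, ⊤)),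
    (t ≫ D.i) * prodPts n (fun k => P (D.u (e k)) (x k)) =
      prodPts n (fun k => P (D.u (e k)) (Red.gmFn (t ≫ chr D (D.P.root (e k))) * x k)) * (t ≫ D.i)
  | 0, _, _ => by simp
  | n + 1, e, x => by
    rw [prodPts_succ, prodPts_succ, ← _root_.mul_assoc,
      mul_inv_eq_iff_eq_mul.1 (mul_inv_eq_iff_eq_mul.2 (isRootPts D (e 0) t (x 0))), _root_.mul_assoc,
      conj_prodPts t (fun k => e k.succ) fun k => x k.succ, ← _root_.mul_assoc]

theorem prodPts_tuple {X : Over S} {n : ℕ} (e : Fin n → D.idx) (x : Fin n → Γ(X.left, ⊤)) :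
    tuple n (fun k => Ga.gaPt (x k)) ≫ RedSub.prodMap (Red.Ga S) n (fun k => D.u (e k)) =
      prodPts n fun k => P (D.u (e k)) (x k) := by
  rw [comp_prodMap]
  refine congrArg _ (funext fun k => ?_)
  rw [← Category.assoc, tuple_proj]
  rfl

theorem eq_of_prodPts {l : D.M →+ ℤ} {n : ℕ} {e : Fin n → D.idx} (hinj : Function.Injective e)
    (he : ∀ k, l (D.P.root (e k)) < 0) {X : Over S} {x y : Fin n → Γ(X.left, ⊤)}
    (h : prodPts n (fun k => P (D.u (e k)) (x k)) = prodPts n (fun k => P (D.u (e k)) (y k))) : x = y := by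
  haveI := mono_of_isClosedImmersion _ (mono_prodMap_neg hinj he)
  rw [← prodPts_tuple, ← prodPts_tuple, cancel_mono] at h
  funext k
  have h2 := congrArg (fun w => Red.gaFn (w ≫ proj n k)) h
  simpa only [tuple_proj, Ga.gaFn_gaPt] using h2

theorem exists_coords {n m : ℕ} {e : Fin n → D.idx} {e' : Fin m → D.idx} {X : Over S}
    (z : X ⟶ RedSub.pow (Red.Ga S) n ⊗ (D.T ⊗ RedSub.pow (Red.Ga S) m)) :
    ∃ (x : Fin n → Γ(X.left, ⊤)) (t : X ⟶ D.T) (y : Fin m → Γ(X.left, ⊤)),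
      z = lift (tuple n fun k => Ga.gaPt (x k)) (lift t (tuple m fun k => Ga.gaPt (y k))) ∧
      z ≫ RedSub.cellMap D e e' = prodPts n (fun k => P (D.u (e k)) (x k)) *
        ((t ≫ D.i) * prodPts m (fun k => P (D.u (e' k)) (y k))) := by
  have key : ∀ {k : ℕ} (w : X ⟶ RedSub.pow (Red.Ga S) k), w = tuple k fun i => Ga.gaPt (Red.gaFn (w ≫ proj k i)) := by
    intro k
    induction k with
    | zero => exact fun w => toUnit_unique _ _
    | succ k ih =>
      intro w
      refine CartesianMonoidalCategory.hom_ext _ _ ?_ ?_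
      · exact ((lift_fst (C := Over S) _ _).trans (Ga.eq_gaPt _ rfl).symm).symm
      · refine (ih _).trans (Eq.trans ?_ (lift_snd (C := Over S) _ _).symm)
        refine congrArg (tuple k) (funext fun i => congrArg Ga.gaPt (congrArg Red.gaFn ?_))
        exact Category.assoc _ _ _
  have hz : z = lift (tuple n fun k => Ga.gaPt (Red.gaFn ((z ≫ fst _ _) ≫ proj n k)))
      (lift (z ≫ snd _ _ ≫ fst _ _) (tuple m fun k => Ga.gaPt (Red.gaFn ((z ≫ snd _ _ ≫ snd _ _) ≫ proj m k)))) := by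
    rw [← key, ← key]
    ext <;> simp
  refine ⟨_, _, _, hz, ?_⟩
  conv_lhs => rw [hz, comp_cellMap, lift_fst, lift_snd_assoc, lift_fst, lift_snd_assoc, lift_snd, prodPts_tuple, prodPts_tuple]

/-- A point of the cell fixed by a cocharacter has vanishing coordinates where the cocharacter is nontrivial. -/
theorem coord_eq_zero {l lam : D.M →+ ℤ} {n m : ℕ} {e : Fin n → D.idx} {e' : Fin m → D.idx}
    (h : Function.Injective e) (h' : Function.Injective e') (he : ∀ k, l (D.P.root (e k)) < 0)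
    (he' : ∀ k, 0 < l (D.P.root (e' k))) {X : Over S} (x : Fin n → Γ(X.left, ⊤)) (t : X ⟶ D.T)
    (y : Fin m → Γ(X.left, ⊤))
    (hg : Commutes (gcochar D lam) (prodPts n (fun k => P (D.u (e k)) (x k)) *
      ((t ≫ D.i) * prodPts m (fun k => P (D.u (e' k)) (y k)))))
    (hunit : ∀ d : ℤ, d ≠ 0 → ∃ s : Γ(X.left, ⊤)ˣ, IsUnit (((s ^ d : Γ(X.left, ⊤)ˣ) : Γ(X.left, ⊤)) - 1)) :
    (∀ k, lam (D.P.root (e k)) ≠ 0 → x k = 0) ∧ ∀ k, lam (D.P.root (e' k)) ≠ 0 → y k = 0 := by
  haveI := mono_cellMap h h' he he'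
  have key : ∀ s : Γ(X.left, ⊤)ˣ,
      (fun k => ((s ^ lam (D.P.root (e k)) : Γ(X.left, ⊤)ˣ) : Γ(X.left, ⊤)) * x k) = x ∧
      (fun k => ((s ^ lam (D.P.root (e' k)) : Γ(X.left, ⊤)ˣ) : Γ(X.left, ⊤)) * y k) = y := fun s => by
    have h1 := hg X (𝟙 X) (Gm.gmPt s)
    rw [Category.id_comp, ← Category.assoc] at h1
    set τ := Gm.gmPt s ≫ cochar D lam with hτ
    have hgm : ∀ (w : D.M), Red.gmFn (τ ≫ chr D w) = ((s ^ lam w : Γ(X.left, ⊤)ˣ) : Γ(X.left, ⊤)) :=
      fun w => gmFn_cochar D lam w s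
    rw [← _root_.mul_assoc (τ ≫ D.i), conj_prodPts, _root_.mul_assoc _ (τ ≫ D.i), ← _root_.mul_assoc (τ ≫ D.i),
      ← MonObj.mul_comp τ t D.i, torus_comm D τ t, MonObj.mul_comp t τ D.i, _root_.mul_assoc (t ≫ D.i), conj_prodPts,
      ← _root_.mul_assoc (t ≫ D.i), ← _root_.mul_assoc, mul_right_cancel_iff] at h1
    simp only [hgm] at h1
    let f : (Fin n → Γ(X.left, ⊤)) → (Fin m → Γ(X.left, ⊤)) →
        (X ⟶ RedSub.pow (Red.Ga S) n ⊗ (D.T ⊗ RedSub.pow (Red.Ga S) m)) := fun a b =>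
      lift (tuple n fun k => Ga.gaPt (a k)) (lift t (tuple m fun k => Ga.gaPt (b k)))
    have hf : ∀ a b, f a b ≫ RedSub.cellMap D e e' = prodPts n (fun k => P (D.u (e k)) (a k)) *
        ((t ≫ D.i) * prodPts m (fun k => P (D.u (e' k)) (b k))) := fun a b => by
      rw [comp_cellMap, lift_fst, lift_snd_assoc, lift_fst, lift_snd_assoc, lift_snd, prodPts_tuple, prodPts_tuple]
    rw [← hf, ← hf, cancel_mono] at h1
    constructor
    · funext k
      have h2 := congrArg (fun w => Red.gaFn ((w ≫ fst _ _) ≫ proj n k)) h1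
      simpa only [f, lift_fst, tuple_proj, Ga.gaFn_gaPt] using h2
    · funext k
      have h2 := congrArg (fun w => Red.gaFn ((w ≫ snd _ _ ≫ snd _ _) ≫ proj m k)) h1
      simpa only [f, lift_snd_assoc, lift_snd, tuple_proj, Ga.gaFn_gaPt] using h2
  constructor
  · intro k hk
    obtain ⟨s, hs⟩ := hunit _ hk
    refine hs.mul_right_eq_zero.1 ?_
    rw [sub_mul, _root_.one_mul, sub_eq_zero]
    exact congrFun (key s).1 k
  · intro k hk
    obtain ⟨s, hs⟩ := hunit _ hk
    refine hs.mul_right_eq_zero.1 ?_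
    rw [sub_mul, _root_.one_mul, sub_eq_zero]
    exact congrFun (key s).2 k

theorem prodPts_cons_cons {X : Over S} {n : ℕ} (e : Fin (n + 2) → D.idx) (x : Fin (n + 2) → Γ(X.left, ⊤))
    (h : ∀ k : Fin n, x k.succ.succ = 0) :
    prodPts (n + 2) (fun k => P (D.u (e k)) (x k)) = P (D.u (e 0)) (x 0) * P (D.u (e 1)) (x 1) := by
  rw [prodPts_succ, prodPts_succ]
  haveI : ∀ c, IsMonHom (D.u c) := fun c => (D.rootHom c).1
  rw [Contract.prodPts_one fun k => by rw [h k, P_zero], _root_.mul_one]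
  rfl

end Groth.Agent.H82.Reduced
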