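import Groth.Agent.H82.Reduced.Core
import Groth.Agent.H82.Reduced.Factors
import Groth.Agent.H82.Reduced.Setup
import Mathlib.Algebra.Polynomial.Laurent

/-!
# The root datum of a split reductive group is reduced
-/

set_option autoImplicit false
set_option linter.style.haveILetI false
set_option linter.unusedSectionVars false
universe u

open CategoryTheory MonoidalCategory CartesianMonoidalCategory MonObj GrpObj AlgebraicGeometry
open Groth.Agent.Lib.RedPts Groth.Agent.H82.BigCell Groth.Agent.H82.Contract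
open Groth.Agent.H82.RankOne (P P_eq P_add P_zero P_comp)
open Groth.Agent.H1.Classical Groth.Agent.H1.Classical.Scheme' Groth.Agent.Lib.RedPts.Points

attribute [local instance] Groth.Agent.Lib.RedPts.Points.baseAlgebra

namespace Groth.Agent.H82.Reduced

variable {S : Scheme.{u}} {K : Type u} [Field K] (y : Spec (CommRingCat.of K) ⟶ S)

/-- The rational point over `S`. -/
noncomputable abbrev Yo : Over S := (Over.map y).obj (𝟙_ (Over (Spec (CommRingCat.of K))))

/-- An affine test object over the point. -/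
noncomputable abbrev tst (Q : Type u) [CommRing Q] [Algebra K Q] : Over (Spec (CommRingCat.of K)) :=
  Over.mk (Spec.map (CommRingCat.ofHom (algebraMap K Q)))

/-- The point of a test object given by a character. -/
noncomputable def tstPt {Q : Type u} [CommRing Q] [Algebra K Q] (ψ : Q →ₐ[K] K) :
    𝟙_ (Over (Spec (CommRingCat.of K))) ⟶ tst (K := K) Q :=
  Over.homMk (Spec.map (CommRingCat.ofHom ψ.toRingHom)) (by
    show Spec.map _ ≫ Spec.map _ = 𝟙 _
    rw [← Spec.map_comp, ← Spec.map_id]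
    exact congrArg Spec.map (CommRingCat.hom_ext (RingHom.ext fun r => ψ.commutes r)))

/-- Functions on a test object. -/
noncomputable def tstFn {Q : Type u} [CommRing Q] [Algebra K Q] (x : Q) : Γ((tst (K := K) Q).left, ⊤) :=
  (Scheme.ΓSpecIso (CommRingCat.of Q)).inv x

theorem baseHom_one (r : K) :
    baseHom (𝟙_ (Over (Spec (CommRingCat.of K)))) r = (Scheme.ΓSpecIso (CommRingCat.of K)).inv r := by
  show ((Scheme.ΓSpecIso (CommRingCat.of K)).inv ≫ (𝟙 (Spec (CommRingCat.of K)) : _ ⟶ _).appTop).hom r = _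
  simp

theorem appTop_tstPt {Q : Type u} [CommRing Q] [Algebra K Q] (ψ : Q →ₐ[K] K) (x : Q) :
    (tstPt ψ).left.appTop (tstFn x) = baseHom (𝟙_ (Over (Spec (CommRingCat.of K)))) (ψ x) := by
  rw [baseHom_one]
  exact congrArg (fun f => f.hom x)
    (Scheme.ΓSpecIso_inv_naturality (CommRingCat.ofHom ψ.toRingHom)).symm

variable {y}

/-- The product of two additive points, pushed along two maps. -/
noncomputable def fam {Z : Over S} [GrpObj Z] (f g : Red.Ga S ⟶ Z) (X : Over S) (r s : Γ(X.left, ⊤)) : X ⟶ Z :=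
  (Ga.gaPt r ≫ f) * (Ga.gaPt s ≫ g)

theorem fam_map {G : Over S} [GrpObj G] {Z : Over S} [GrpObj Z] {j : Z ⟶ G} [IsMonHom j]
    {f g : Red.Ga S ⟶ Z} {u v : Red.Ga S ⟶ G} (hf : f ≫ j = u) (hg : g ≫ j = v) (X : Over S)
    (r s : Γ(X.left, ⊤)) : fam f g X r s ≫ j = P u r * P v s := by
  rw [fam, MonObj.mul_comp, Category.assoc, hf, Category.assoc, hg]; rfl

theorem comp_fam {Z : Over S} [GrpObj Z] (f g : Red.Ga S ⟶ Z) {X X' : Over S} (h : X' ⟶ X)
    (r s : Γ(X.left, ⊤)) : h ≫ fam f g X r s = fam f g X' (h.left.appTop r) (h.left.appTop s) := by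
  simp only [fam, MonObj.comp_mul, ← Category.assoc]
  congr 2 <;> exact Ga.eq_gaPt _ (by rw [Ga.gaFn_comp, Ga.gaFn_gaPt])

theorem exists_unit_hom : ∃ ε : K ≃+* Γ((Yo y).left, ⊤),
    ∀ r, ε r = baseHom (𝟙_ (Over (Spec (CommRingCat.of K)))) r :=
  ⟨RingEquiv.ofBijective (baseHom (𝟙_ (Over (Spec (CommRingCat.of K))))) baseHom_bijective, fun _ => rfl⟩

set_option maxHeartbeats 1000000 in
/-- There is no root whose double is a root, over an algebraically closed point. -/
theorem false_of_reductive [IsAlgClosed K] {G : Over S} [GrpObj G] {D : Red.SplitRed G} {a b : D.idx}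
    (hab : D.P.root b = (2 : ℤ) • D.P.root a) {lam : D.M →+ ℤ} (hla : lam (D.P.root a) = 0)
    (hlam : ∀ c, lam (D.P.root c) = 0 → c = a ∨ c = b ∨ c = D.P.reflectionPerm a a ∨ c = D.P.reflectionPerm b b)
    {Z : Over S} [GrpObj Z] (j : Z ⟶ G) [IsMonHom j] [Mono j]
    (hjc : ∀ (X : Over S) (g : X ⟶ G), (∃ z, z ≫ j = g) ↔ Commutes (gcochar D lam) g)
    (hred : Red.IsReductive (Red.bc y Z)) : False := by
  classical
  haveI := isAffineHom D
  haveI : IsAddTorsionFree D.M := .of_isTorsionFree ℤ D.M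
  haveI := hred.1
  obtain ⟨hZ1, hZ2, hZ3⟩ := CentralTorusRed.reductive_props hred
  haveI := hZ1
  haveI := hZ2
  haveI := hZ3
  obtain ⟨A, _, _, _, _, e, he⟩ := MaxTorusApply.exists_GA (Red.bc y Z)
  haveI := he
  haveI : IsIso e.hom.left := ((Over.forget _).mapIso e).isIso_hom
  haveI : IsIso e.inv.left := ((Over.forget _).mapIso e).isIso_inv
  have hGA : Red.IsReductiveOver K (GA K A) := isReductiveOver_self (CentralTorusRed.isReductive_congr e hred)
  obtain ⟨ε, hε⟩ := exists_unit_hom (y := y)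
  haveI : ∀ c, IsMonHom (D.u c) := fun c => (D.rootHom c).1
  -- lifting to the centralizer
  set a' := D.P.reflectionPerm a a with ha'
  set b' := D.P.reflectionPerm b b with hb'
  have hlb : lam (D.P.root b) = 0 := by rw [hab, map_zsmul, hla, smul_zero]
  have hla' : lam (D.P.root a') = 0 := by rw [ha', root_refl_self, map_neg, hla, neg_zero]
  have hlb' : lam (D.P.root b') = 0 := by rw [hb', root_refl_self, map_neg, hlb, neg_zero]
  have hu : ∀ {c : D.idx}, lam (D.P.root c) = 0 → ∃ f : Red.Ga S ⟶ Z, f ≫ j = D.u c := fun {c} hc =>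
    (hjc _ _).2 (by simpa using R2.Cent.commutes_root hc (𝟙 (Red.Ga S)))
  obtain ⟨zp, hzp⟩ := hu hla
  obtain ⟨zq, hzq⟩ := hu hlb
  obtain ⟨zp', hzp'⟩ := hu hla'
  obtain ⟨zq', hzq'⟩ := hu hlb'
  obtain ⟨iZ, hiZ⟩ := (hjc D.T D.i).2 (by simpa using R2.Cent.commutes_torus lam (𝟙 D.T))
  obtain ⟨n₀, hn₀⟩ := D.refl b
  have hn₀Z : ∃ nz : 𝟙_ (Over S) ⟶ Z, nz ≫ j = n₀ := (hjc _ _).2 fun W f z => by
    have h := hn₀ W (z ≫ cochar D lam)
    rw [toUnit_unique f (toUnit W), ← Category.assoc]
    refine ((mul_inv_eq_iff_eq_mul.1 h).trans ?_).symm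
    refine congrArg (· * _) ?_
    simp only [← Category.assoc]
    refine congrArg (· ≫ D.i) (eq_of_chr fun w => ?_)
    rw [gmFn_cochar']
    have e1 : ((((z ≫ cochar D lam) ≫ D.split.hom.hom.hom) ≫
        Red.DSmap S (D.P.reflection b).toLinearMap.toAddMonoidHom) ≫ D.split.inv.hom.hom) ≫ chr D w =
        (((z ≫ cochar D lam) ≫ D.split.hom.hom.hom) ≫ Red.DSmap S (D.P.reflection b).toLinearMap.toAddMonoidHom) ≫
          Red.chi S w := by
      simp only [chr, Category.assoc]
      rw [← Category.assoc D.split.inv.hom.hom, split_inv_hom, Category.id_comp]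
    rw [e1, Gm.gmFn_chi, Gm.dsFn_DSmap, ← Gm.gmFn_chi]
    have e2 := gmFn_cochar' lam ((D.P.reflection b).toLinearMap.toAddMonoidHom w) z
    simp only [chr, ← Category.assoc] at e2 ⊢
    rw [e2]
    congr 2
    simp [D.P.reflection_apply, hlb]
  obtain ⟨nz, hnz⟩ := hn₀Z
  -- points
  let Φ : ∀ (W : Over (Spec (CommRingCat.of K))), ((Over.map y).obj W ⟶ Z) →* (W ⟶ GA K A) := fun W =>
    MonoidHom.mk' (fun z => BC.up y z ≫ e.hom) fun z z' => by rw [BC.up_mul, MonObj.mul_comp]
  have hΦn : ∀ {W W' : Over (Spec (CommRingCat.of K))} (f : W' ⟶ W) (z : (Over.map y).obj W ⟶ Z),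
      f ≫ Φ W z = Φ W' ((Over.map y).map f ≫ z) := fun f z => by
    show f ≫ BC.up y z ≫ e.hom = BC.up y _ ≫ e.hom
    rw [← Category.assoc]
    refine congrArg (· ≫ e.hom) (BC.down_injective ?_)
    rw [BC.down_comp, BC.down_up, BC.down_up]
  have hΦbij : Function.Bijective (Φ (𝟙_ (Over (Spec (CommRingCat.of K))))) := by
    refine ⟨fun z z' h => ?_, fun x => ⟨BC.down y (x ≫ e.inv), ?_⟩⟩
    · exact ((BC.downMulEquiv y _ Z).symm).injective ((cancel_mono e.hom).1 h)
    · show BC.up y (BC.down y (x ≫ e.inv)) ≫ e.hom = x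
      rw [BC.up_down, Category.assoc, e.inv_hom_id, Category.comp_id]
  let θ : (Yo y ⟶ Z) ≃* HopfPts.Pt K A := (MulEquiv.ofBijective (Φ _) hΦbij).trans
    (MulEquiv.ofBijective (ptHom (A := A) (𝟙_ (Over (Spec (CommRingCat.of K))))) ⟨ptHom_injective, ptHom_surjective⟩).symm
  have hθ : ∀ z, ptHom (𝟙_ _) (θ z) = Φ _ z := fun z =>
    (MulEquiv.ofBijective (ptHom (A := A) (𝟙_ (Over (Spec (CommRingCat.of K))))) ⟨ptHom_injective, ptHom_surjective⟩).apply_symm_apply _
  have heval : ∀ {Q : Type u} [CommRing Q] [Algebra K Q] (z : (Over.map y).obj (tst (K := K) Q) ⟶ Z) (r : A),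
      ∃ x : Q, ∀ ψ : Q →ₐ[K] K, (θ ((Over.map y).map (tstPt ψ) ≫ z)).ofConv r = ψ x := fun {Q} _ _ z r => by
    refine ⟨(Scheme.ΓSpecIso (CommRingCat.of Q)).hom (algHomOf (Φ _ z) r), fun ψ => baseHom_bijective.1 ?_⟩
    refine Eq.trans ?_ (appTop_tstPt ψ _)
    have h1 := congrArg (fun f => algHomOf f r) (hθ ((Over.map y).map (tstPt ψ) ≫ z))
    rw [← hΦn] at h1
    simp only [algHomOf_ptHom] at h1
    refine h1.trans ((ringHomOf_comp _ _ _).trans ?_)
    exact congrArg (fun v => (tstPt ψ).left.appTop v)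
      (Iso.hom_inv_id_apply (Scheme.ΓSpecIso (CommRingCat.of Q)) _).symm
  -- the families
  obtain ⟨h3', h3'', h3, h3₁⟩ := not_root_triple D.P hab
  have hMadd : ∀ {c d : D.idx} {f g : Red.Ga S ⟶ Z}, f ≫ j = D.u c → g ≫ j = D.u d →
      D.P.root c + D.P.root d ≠ 0 → D.P.root c + D.P.root d ∉ Set.range D.P.root → ∀ (X : Over S) r s r' s',
      fam f g X (r + r') (s + s') = fam f g X r s * fam f g X r' s' := fun {c d f g} hf hg h0 h1 X r s r' s' => by
    have hc : P (D.u c) r' * P (D.u d) s = P (D.u d) s * P (D.u c) r' :=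
      Groth.Agent.S8458.result S G D c d h0 h1 X (Ga.gaPt r') (Ga.gaPt s)
    rw [← cancel_mono j, fam_map hf hg, MonObj.mul_comp, fam_map hf hg, fam_map hf hg, P_add, P_add, _root_.mul_assoc,
      ← _root_.mul_assoc (P (D.u c) r'), hc, _root_.mul_assoc, ← _root_.mul_assoc]
  -- torus
  letI : CommGroup (Yo y ⟶ D.T) := { (inferInstance : Group (Yo y ⟶ D.T)) with mul_comm := torus_comm D }
  haveI hiZm : IsMonHom iZ := Groth.Agent.H82.Weyl.isMonHom_of_points iZ fun X x z => (cancel_mono j).1 (by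
    simp only [MonObj.mul_comp _ _ j, Category.assoc, hiZ, MonObj.mul_comp _ _ D.i])
  haveI := R2.Cent.isMonHom_chr (D := D) (D.P.root a)
  let iT : (Yo y ⟶ D.T) →* HopfPts.Pt K A := MonoidHom.mk' (fun t => θ (t ≫ iZ)) fun t t' => by
    rw [MonObj.mul_comp, map_mul]
  let αf : (Yo y ⟶ D.T) →* Kˣ := MonoidHom.mk'
    (fun t => Units.map ε.symm.toRingHom.toMonoidHom (Gm.isUnit_gmFn (t ≫ chr D (D.P.root a))).unit) fun t t' =>
      Units.ext (by
        show ε.symm (Red.gmFn ((t * t') ≫ chr D (D.P.root a))) = _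
        rw [MonObj.mul_comp, Gm.gmFn_mul, map_mul]
        rfl)
  have hαf : ∀ t, ε (αf t : K) = Red.gmFn (t ≫ chr D (D.P.root a)) := fun t => ε.apply_symm_apply _
  let lb : D.M →+ ℤ := (D.P.coroot' b).toAddMonoidHom
  have hlbc : ∀ c, lb (D.P.root c) = D.P.pairing c b := fun c => D.P.root_coroot'_eq_pairing b c
  let uhat : Kˣ →* Γ((Yo y).left, ⊤)ˣ := Units.map ε.toRingHom.toMonoidHom
  let cf : Kˣ →* (Yo y ⟶ D.T) := MonoidHom.mk' (fun s => Gm.gmPt (uhat s) ≫ cochar D lb) fun s s' => by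
    rw [← MonObj.mul_comp]
    exact congrArg (· ≫ cochar D lb) (Gm.gmFn_injective (by rw [Gm.gmFn_mul, Gm.gmFn_gmPt, Gm.gmFn_gmPt,
      Gm.gmFn_gmPt, map_mul, Units.val_mul]))
  let umz : K → K → (Yo y ⟶ Z) := fun p q => fam zp' zq' _ (ε p) (ε q)
  let upz : K → K → (Yo y ⟶ Z) := fun p q => fam zp zq _ (ε p) (ε q)
  have hα2 : ∀ (t : Yo y ⟶ D.T) (c : D.idx) (z : ℤ), D.P.root c = z • D.P.root a →
      Red.gmFn (t ≫ chr D (D.P.root c)) = ε ((αf t ^ z : Kˣ) : K) := fun t c z hc => by
    let φ : Multiplicative D.M →* Γ((Yo y).left, ⊤) :=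
      { toFun := fun m => Gm.dsFn (t ≫ D.split.hom.hom.hom) (Multiplicative.toAdd m)
        map_one' := Gm.dsFn_zero _
        map_mul' := fun p q => Gm.dsFn_add _ _ _ }
    have h2 : ∀ m, Red.gmFn (t ≫ chr D m) = φ.toHomUnits (Multiplicative.ofAdd m) := fun m => by
      rw [chr, ← Category.assoc, Gm.gmFn_chi]; rfl
    have h3 : uhat (αf t) = φ.toHomUnits (Multiplicative.ofAdd (D.P.root a)) := Units.ext (by
      rw [← h2]; exact hαf t)
    rw [h2, hc, ofAdd_zsmul, map_zpow, ← h3, ← map_zpow]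
    rfl
  have hroot_a' : D.P.root a' = (-1 : ℤ) • D.P.root a := by rw [ha', root_refl_self, neg_one_zsmul]
  have hroot_b' : D.P.root b' = (-2 : ℤ) • D.P.root a := by rw [hb', root_refl_self, hab, ← neg_zsmul]
  have hconj : ∀ {c d : D.idx} {f g : Red.Ga S ⟶ Z}, f ≫ j = D.u c → g ≫ j = D.u d →
      ∀ (t : Yo y ⟶ D.T) (p q : Γ((Yo y).left, ⊤)),
      (t ≫ iZ) * fam f g _ p q =
        fam f g _ (Red.gmFn (t ≫ chr D (D.P.root c)) * p) (Red.gmFn (t ≫ chr D (D.P.root d)) * q) * (t ≫ iZ) :=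
    fun {c d f g} hf hg t p q => by
      rw [← cancel_mono j, MonObj.mul_comp, MonObj.mul_comp, Category.assoc, hiZ, fam_map hf hg, fam_map hf hg,
        ← _root_.mul_assoc, mul_inv_eq_iff_eq_mul.1 (mul_inv_eq_iff_eq_mul.2 (isRootPts D c t p)),
        _root_.mul_assoc, mul_inv_eq_iff_eq_mul.1 (mul_inv_eq_iff_eq_mul.2 (isRootPts D d t q)),
        ← _root_.mul_assoc]
  -- the open cell
  let A₀ := {c : D.idx // lam (D.P.root c) < 0}
  let B₀ := {c : D.idx // 0 < lam (D.P.root c)}
  let d : Fin (Fintype.card A₀) → D.idx := fun k => ((Fintype.equivFin A₀).symm k).1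
  let d' : Fin (Fintype.card B₀) → D.idx := fun k => ((Fintype.equivFin B₀).symm k).1
  have hd : ∀ k, lam (D.P.root (d k)) < 0 := fun k => ((Fintype.equivFin A₀).symm k).2
  have hd' : ∀ k, 0 < lam (D.P.root (d' k)) := fun k => ((Fintype.equivFin B₀).symm k).2
  let N : ℤ := 1 + ∑ c, |D.P.pairing c b|
  have hN : ∀ c, |D.P.pairing c b| < N := fun c => by
    have := Finset.single_le_sum (fun c _ => abs_nonneg (D.P.pairing c b)) (Finset.mem_univ c)
    simp only [N]; omega
  let l : D.M →+ ℤ := N • lam + lb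
  have hl : ∀ c, l (D.P.root c) = N * lam (D.P.root c) + D.P.pairing c b := fun c => by simp [l, hlbc]
  have hpa : D.P.pairing a b = 1 := pairing_double D.P hab
  have hla1 : l (D.P.root a) = 1 := by rw [hl, hla, hpa]; ring
  have hlb1 : l (D.P.root b) = 2 := by rw [hab, map_zsmul, hla1]; rfl
  have hla1' : l (D.P.root a') = -1 := by rw [hroot_a', map_zsmul, hla1]; rfl
  have hlb1' : l (D.P.root b') = -2 := by rw [hroot_b', map_zsmul, hla1]; rfl
  let en : Fin (Fintype.card A₀ + 2) → D.idx := Fin.cons a' (Fin.cons b' d)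
  let ep : Fin (Fintype.card B₀ + 2) → D.idx := Fin.cons a (Fin.cons b d')
  have hen : ∀ k, l (D.P.root (en k)) < 0 := fun k => by
    refine Fin.cases ?_ (fun i => Fin.cases ?_ (fun i => ?_) i) k
    · simp [en, hla1']
    · simp [en, hlb1']
    · simp only [en, Fin.cons_succ]
      rw [hl]
      nlinarith [hd i, hN (d i), le_abs_self (D.P.pairing (d i) b), abs_nonneg (D.P.pairing (d i) b)]
  have hep : ∀ k, 0 < l (D.P.root (ep k)) := fun k => by
    refine Fin.cases ?_ (fun i => Fin.cases ?_ (fun i => ?_) i) k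
    · simp [ep, hla1]
    · simp [ep, hlb1]
    · simp only [ep, Fin.cons_succ]
      rw [hl]
      nlinarith [hd' i, hN (d' i), neg_abs_le (D.P.pairing (d' i) b), abs_nonneg (D.P.pairing (d' i) b)]
  have henj : Function.Injective en := Fin.cons_injective_iff.2 ⟨fun ⟨k, hk⟩ => by
      revert hk
      refine Fin.cases (fun hk => ?_) (fun i hk => ?_) k
      · have := congrArg (fun c => l (D.P.root c)) hk
        simp only [Fin.cons_zero, hla1', hlb1'] at this
        omega
      · have := hd i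
        simp only [Fin.cons_succ] at hk
        rw [hk, hla'] at this
        exact lt_irrefl _ this,
    Fin.cons_injective_iff.2 ⟨fun ⟨i, hi⟩ => by have := hd i; rw [hi, hlb'] at this; exact lt_irrefl _ this,
      Subtype.val_injective.comp (Equiv.injective _)⟩⟩
  have hepj : Function.Injective ep := Fin.cons_injective_iff.2 ⟨fun ⟨k, hk⟩ => by
      revert hk
      refine Fin.cases (fun hk => ?_) (fun i hk => ?_) k
      · have := congrArg (fun c => l (D.P.root c)) hk
        simp only [Fin.cons_zero, hla1, hlb1] at this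
        omega
      · have := hd' i
        simp only [Fin.cons_succ] at hk
        rw [hk, hla] at this
        exact lt_irrefl _ this,
    Fin.cons_injective_iff.2 ⟨fun ⟨i, hi⟩ => by have := hd' i; rw [hi, hlb] at this; exact lt_irrefl _ this,
      Subtype.val_injective.comp (Equiv.injective _)⟩⟩
  have hcard : Fintype.card A₀ + 2 + (Fintype.card B₀ + 2) = Fintype.card D.idx := by
    have h := Fintype.card_of_bijective (f := Sum.elim en ep) ⟨henj.sumElim hepj fun p q h => by
        have h1 := hen p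
        rw [h] at h1
        exact lt_irrefl _ (h1.trans (hep q)), fun c => ?_⟩
    · rwa [Fintype.card_sum, Fintype.card_fin, Fintype.card_fin] at h
    by_cases hc : lam (D.P.root c) = 0
    · rcases hlam c hc with rfl | rfl | rfl | rfl
      · exact ⟨Sum.inr 0, rfl⟩
      · exact ⟨Sum.inr (Fin.succ 0), rfl⟩
      · exact ⟨Sum.inl 0, rfl⟩
      · exact ⟨Sum.inl (Fin.succ 0), rfl⟩
    · rcases lt_or_gt_of_ne hc with h | h
      · exact ⟨Sum.inl (Fintype.equivFin A₀ ⟨c, h⟩).succ.succ, by simp [en, d]⟩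
      · exact ⟨Sum.inr (Fintype.equivFin B₀ ⟨c, h⟩).succ.succ, by simp [ep, d']⟩
  haveI : IsOpenImmersion (RedSub.cellMap D en ep).left := isOpenImmersion_cellMap (l := l) henj hepj hen hep hcard
  let q : (GA K A).left ⟶ G.left := e.inv.left ≫ Limits.pullback.fst Z.hom y ≫ j.left
  let x₀ : (𝟙_ (Over (Spec (CommRingCat.of K)))).left := IsLocalRing.closedPoint K
  have hq : ∀ z : Yo y ⟶ Z, q ((ptHom (𝟙_ _) (θ z)).left x₀) = (z ≫ j).left x₀ := fun z => by
    rw [hθ]
    show q ((BC.up y z ≫ e.hom).left x₀) = _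
    have : (BC.up y z ≫ e.hom).left ≫ q = (z ≫ j).left := by
      simp only [q, Over.comp_left, Category.assoc]
      rw [← Category.assoc e.hom.left, ← Over.comp_left, e.hom_inv_id, Over.id_left, Category.id_comp,
        ← Category.assoc (BC.up y z).left, ← BC.down_left, BC.down_up]
    rw [← Scheme.Hom.comp_apply, this]
  let Ω := q ⁻¹ᵁ (RedSub.cellMap D en ep).left.opensRange
  let p₁ : (GA K A).left := (ptHom (𝟙_ _) (θ 1)).left x₀
  have hp₁ : p₁ ∈ Ω := by
    show q p₁ ∈ (RedSub.cellMap D en ep).left.opensRange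
    rw [hq]
    obtain ⟨z, hz⟩ := exists_one (D := D) (e := en) (e' := ep) (Yo y)
    refine ⟨z.left x₀, ?_⟩
    rw [← Scheme.Hom.comp_apply, ← Over.comp_left, hz, MonObj.one_comp]
  obtain ⟨_, ⟨hA, rfl⟩, hhA, hsub⟩ :=
    PrimeSpectrum.isTopologicalBasis_basic_opens.exists_subset_of_mem_open hp₁ Ω.2
  have hmem : ∀ χ : HopfPts.Pt K A, (ptHom (𝟙_ _) χ).left x₀ ∈ PrimeSpectrum.basicOpen hA ↔ χ.ofConv hA ≠ 0 := by
    intro χ
    rw [← basicOpen_eq_of_affine (R := CommRingCat.of A) hA]
    show x₀ ∈ (ptHom (𝟙_ _) χ).left ⁻¹ᵁ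
      (Spec (CommRingCat.of A)).basicOpen ((Scheme.ΓSpecIso (CommRingCat.of A)).inv hA) ↔ _
    refine Iff.trans (Iff.of_eq (congrArg (x₀ ∈ ·) (Scheme.preimage_basicOpen_top _ _))) ?_
    have hv : (ptHom (𝟙_ (Over (Spec (CommRingCat.of K)))) χ).left.appTop ((Scheme.ΓSpecIso (CommRingCat.of A)).inv hA) =
        baseHom (𝟙_ (Over (Spec (CommRingCat.of K)))) (χ.ofConv hA) := algHomOf_ptHom χ hA
    rw [hv]
    constructor
    · intro h h0
      rw [h0, map_zero] at h
      simp [Scheme.basicOpen_zero] at h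
    · intro h
      rw [Scheme.basicOpen_of_isUnit _ ((Ne.isUnit h).map _)]
      trivial
  -- the data
  let Dt : Data K (HopfPts.Pt K A) (Yo y ⟶ D.T) :=
    { R := (HopfPts.D K A).R
      irr := by
        rintro _ ⟨r, rfl⟩ _ ⟨r', rfl⟩ h
        rw [← map_mul] at h
        rcases mul_eq_zero.1 (HopfPts.ev_injective K A (h.trans (map_zero _).symm)) with h | h
        · exact Or.inl (by rw [h, map_zero])
        · exact Or.inr (by rw [h, map_zero])
      lmul := (HopfPts.D K A).lmul
      rmul := (HopfPts.D K A).rmul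
      iT := iT
      α := αf
      c := cf
      α_c := fun s => Units.ext (ε.injective (by
        rw [hαf]
        refine (gmFn_cochar D lb (D.P.root a) (uhat s)).trans ?_
        rw [hlbc, hpa, zpow_one]
        rfl))
      um := fun p q => θ (umz p q)
      up := fun p q => θ (upz p q)
      um_add := fun p q p' q' => by
        rw [← map_mul θ]
        refine congrArg θ ?_
        simp only [umz, map_add]
        exact hMadd hzp' hzq' h3' h3'' _ _ _ _ _
      up_add := fun p q p' q' => by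
        rw [← map_mul θ]
        refine congrArg θ ?_
        simp only [upz, map_add]
        exact hMadd hzp hzq h3 h3₁ _ _ _ _ _
      conj_um := fun t p q => by
        show θ (t ≫ iZ) * θ (umz p q) = θ _ * θ (t ≫ iZ)
        rw [← map_mul θ, ← map_mul θ, hconj hzp' hzq', hα2 t a' (-1) hroot_a', hα2 t b' (-2) hroot_b']
        simp only [umz, map_mul, map_pow, MonoidHom.inv_apply]
        congr 4
        · rw [zpow_neg_one]
        · rw [← map_pow ε, ← Units.val_pow_eq_pow_val, inv_pow, ← zpow_natCast, ← zpow_neg]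
          rfl
      conj_up := fun t p q => by
        show θ (t ≫ iZ) * θ (upz p q) = θ _ * θ (t ≫ iZ)
        rw [← map_mul θ, ← map_mul θ, hconj hzp hzq, hα2 t a 1 (one_zsmul _).symm, hα2 t b 2 hab]
        simp only [upz, map_mul, map_pow]
        congr 4
        · rw [zpow_one]
        · rw [← map_pow ε, ← Units.val_pow_eq_pow_val, ← zpow_natCast]
          rfl
      poly_um := by
        rintro _ ⟨r, rfl⟩
        obtain ⟨x, hx⟩ := heval (fam zp' zq' _ (tstFn (K := K) (MvPolynomial.X 0 : MvPolynomial (Fin 2) K)) (tstFn (K := K) (MvPolynomial.X 1 : MvPolynomial (Fin 2) K))) r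
        refine ⟨x, fun p q => ?_⟩
        show (θ (umz p q)).ofConv r = _
        rw [← MvPolynomial.aeval_eq_eval, ← hx, comp_fam]
        simp only [umz, hε, Over.map_map_left, pt]
        erw [appTop_tstPt, appTop_tstPt]
        simp
      poly_up := by
        rintro _ ⟨r, rfl⟩
        obtain ⟨x, hx⟩ := heval (fam zp zq _ (tstFn (K := K) (MvPolynomial.X 0 : MvPolynomial (Fin 2) K)) (tstFn (K := K) (MvPolynomial.X 1 : MvPolynomial (Fin 2) K))) r
        refine ⟨x, fun p q => ?_⟩
        show (θ (upz p q)).ofConv r = _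
        rw [← MvPolynomial.aeval_eq_eval, ← hx, comp_fam]
        simp only [upz, hε, Over.map_map_left, pt]
        erw [appTop_tstPt, appTop_tstPt]
        simp
      laurent := by
        rintro _ ⟨r, rfl⟩
        let tu : Γ(((Over.map y).obj (tst (K := K) (LaurentPolynomial K))).left, ⊤)ˣ :=
          ((LaurentPolynomial.isUnit_T (R := K) 1).map (Scheme.ΓSpecIso (CommRingCat.of (LaurentPolynomial K))).inv.hom).unit
        obtain ⟨x, hx⟩ := heval ((Gm.gmPt tu ≫ cochar D lb) ≫ iZ) r
        obtain ⟨n, f, hf⟩ := LaurentPolynomial.exists_T_pow x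
        refine ⟨n, f, fun s => ?_⟩
        let ψ : LaurentPolynomial K →ₐ[K] K :=
          AddMonoidAlgebra.lift K K ℤ ((Units.coeHom K).comp (zpowersHom Kˣ s))
        have hψT : ∀ z : ℤ, ψ (LaurentPolynomial.T z) = (s : K) ^ z := fun z => by
          simp [ψ, LaurentPolynomial.T, -LaurentPolynomial.single_eq_C_mul_T]
        have hψP : ∀ g : Polynomial K, ψ (Polynomial.toLaurent g) = g.eval (s : K) := fun g => by
          have := DFunLike.congr_fun (show ψ.comp (Polynomial.toLaurentAlg) = Polynomial.aeval (s : K) from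
            Polynomial.algHom_ext (by simp [hψT])) g
          simpa using this
        have key : (θ (cf s ≫ iZ)).ofConv r = ψ x := by
          rw [← hx, ← Category.assoc, ← Category.assoc]
          refine congrArg (fun w => (θ w).ofConv r) (congrArg (fun w => (w ≫ cochar D lb) ≫ iZ) ?_)
          refine Gm.gmFn_injective ?_
          rw [Gm.gmFn_comp, Gm.gmFn_gmPt, Gm.gmFn_gmPt, Over.map_map_left]
          show ε (s : K) = (tstPt ψ).left.appTop (tstFn (LaurentPolynomial.T 1))
          rw [appTop_tstPt, hψT, zpow_one, hε]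
        show (θ (cf s ≫ iZ)).ofConv r * (s : K) ^ n = _
        rw [key, ← hψP, hf, map_mul, hψT, zpow_natCast]
      h := HopfPts.ev K A hA
      h_mem := ⟨hA, rfl⟩
      h_one := by
        show (1 : HopfPts.Pt K A).ofConv hA ≠ 0
        rw [← map_one θ]
        exact (hmem _).1 hhA
      cell := fun g hg => by
        have h1 : q ((ptHom (𝟙_ _) g).left x₀) ∈ (RedSub.cellMap D en ep).left.opensRange := hsub ((hmem g).2 hg)
        obtain ⟨zg, rfl⟩ := θ.surjective g
        rw [hq] at h1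
        haveI : Subsingleton (Yo y).left := inferInstanceAs (Subsingleton (PrimeSpectrum K))
        obtain ⟨z, hz⟩ := Contract.exists_factor (RedSub.cellMap D en ep) (zg ≫ j) (by
          rintro _ ⟨w, rfl⟩
          rw [Subsingleton.elim w x₀]
          exact h1)
        obtain ⟨xc, t, yc, -, hdec⟩ := exists_coords (e := en) (e' := ep) z
        rw [hz] at hdec
        obtain ⟨hx0, hy0⟩ := coord_eq_zero (lam := lam) henj hepj hen hep xc t yc
          (hdec ▸ (hjc _ _).1 ⟨zg, rfl⟩) fun d hd => by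
            obtain ⟨s, hs⟩ := exists_unit_ne_one (k := K) hd
            refine ⟨uhat s, ?_⟩
            rw [← map_zpow]
            show IsUnit (ε ((s ^ d : Kˣ) : K) - 1)
            rw [← map_one ε, ← map_sub]
            exact (Ne.isUnit (sub_ne_zero.2 fun h => hs (Units.ext h))).map ε
        refine ⟨ε.symm (xc 0), ε.symm (xc 1), t, ε.symm (yc 0), ε.symm (yc 1), ?_⟩
        show θ zg = θ (umz _ _) * θ (t ≫ iZ) * θ (upz _ _)
        rw [← map_mul θ, ← map_mul θ]
        refine congrArg θ ((cancel_mono j).1 ?_)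
        simp only [umz, upz, RingEquiv.apply_symm_apply, MonObj.mul_comp, fam_map hzp' hzq', fam_map hzp hzq, Category.assoc,
          hiZ]
        rw [hdec, prodPts_cons_cons en xc fun k => hx0 _ (hd k).ne,
          prodPts_cons_cons ep yc fun k => hy0 _ (hd' k).ne', _root_.mul_assoc (_ * _)]
        rfl
      n := θ (toUnit (Yo y) ≫ nz)
      n_c := fun s => by
        show θ _ * θ (cf s ≫ iZ) = θ (cf s⁻¹ ≫ iZ) * θ _
        rw [← map_mul θ, ← map_mul θ]
        refine congrArg θ ((cancel_mono j).1 ?_)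
        simp only [MonObj.mul_comp, Category.assoc, hiZ, hnz]
        have h := mul_inv_eq_iff_eq_mul.1 (hn₀ (Yo y) (cf s))
        rw [h]
        refine congrArg (· * _) ?_
        simp only [← Category.assoc]
        refine congrArg (· ≫ D.i) (eq_of_chr fun w => ?_)
        have e1 : ((((cf s) ≫ D.split.hom.hom.hom) ≫
            Red.DSmap S (D.P.reflection b).toLinearMap.toAddMonoidHom) ≫ D.split.inv.hom.hom) ≫ chr D w =
            ((cf s ≫ D.split.hom.hom.hom) ≫ Red.DSmap S (D.P.reflection b).toLinearMap.toAddMonoidHom) ≫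
              Red.chi S w := by
          simp only [chr, Category.assoc]
          rw [← Category.assoc D.split.inv.hom.hom, split_inv_hom, Category.id_comp]
        rw [e1, Gm.gmFn_chi, Gm.dsFn_DSmap, ← Gm.gmFn_chi, Category.assoc (cf s)]
        refine (gmFn_cochar D lb _ (uhat s)).trans (Eq.trans ?_ (gmFn_cochar D lb w (uhat s⁻¹)).symm)
        rw [map_inv, inv_zpow', show lb ((D.P.reflection b).toLinearMap.toAddMonoidHom w) = - lb w by
          simp [lb, D.P.reflection_apply]; ring] }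
  -- the family of simple representations separates the points of the lower group
  obtain ⟨J, _, F, hF⟩ := exists_simple_family hGA
  refine false_of_faithful Dt (fun i => (F i).W) (fun i => (F i).σ) (fun i => (F i).simple) (fun i => (F i).reg)
    fun p q hpq => ?_
  have hpoly : ∀ f : (HopfPts.D K A).R, ∃ Q : Polynomial K,
      ∀ s, (f : HopfPts.Pt K A → K) (Dt.um (s * p) (s ^ 2 * q)) = Q.eval s := fun f => by
    obtain ⟨Q, hQ⟩ := Dt.poly_um _ f.2
    refine ⟨MvPolynomial.aeval ![Polynomial.C p * Polynomial.X, Polynomial.C q * Polynomial.X ^ 2] Q, fun s => ?_⟩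
    rw [hQ, MvPolynomial.aeval_def, ← Polynomial.coe_evalRingHom, MvPolynomial.eval₂_comp_left,
      MvPolynomial.eval_eq', MvPolynomial.eval₂_eq']
    refine Finset.sum_congr rfl fun d _ => ?_
    simp [pt, Fin.prod_univ_two, mul_comm s p, mul_comm (s ^ 2) q]
  have hirr : (HopfPts.D K A).SIrr (Set.range fun s : K => Dt.um (s * p) (s ^ 2 * q)) := fun f f' hff => by
    obtain ⟨Q, hQ⟩ := hpoly f
    obtain ⟨Q', hQ'⟩ := hpoly f'
    have h0 : Q * Q' = 0 := Polynomial.funext fun s => by
      rw [Polynomial.eval_mul, ← hQ, ← hQ', Polynomial.eval_zero]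
      exact hff _ ⟨s, rfl⟩
    rcases mul_eq_zero.1 h0 with h | h
    · exact Or.inl (by rintro _ ⟨s, rfl⟩; rw [hQ, h, Polynomial.eval_zero])
    · exact Or.inr (by rintro _ ⟨s, rfl⟩; rw [hQ', h, Polynomial.eval_zero])
  have hone : (1 : HopfPts.Pt K A) ∈ Set.range fun s : K => Dt.um (s * p) (s ^ 2 * q) :=
    ⟨0, by simp [Dt.um_zero]⟩
  have hkill : ∀ g ∈ Set.range (fun s : K => Dt.um (s * p) (s ^ 2 * q)), ∀ i, (F i).σ g = 1 := by
    rintro _ ⟨s, rfl⟩ i
    rcases eq_or_ne s 0 with rfl | hs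
    · simp [Dt.um_zero]
    have h := congrArg (F i).σ (Dt.conj_um (Dt.c (Units.mk0 s hs)⁻¹) p q)
    rw [map_mul, map_mul, hpq, _root_.mul_one, MonoidHom.inv_apply, Dt.α_c, _root_.inv_inv, Units.val_mk0] at h
    have hu : IsUnit ((F i).σ (Dt.iT (Dt.c (Units.mk0 s hs)⁻¹))) := (Group.isUnit _).map _
    exact hu.mul_eq_right.1 h.symm
  have h1 : θ (umz p q) = 1 := by
    have h := hF _ hirr hone hkill (Dt.um (1 * p) (1 ^ 2 * q)) ⟨1, rfl⟩
    rw [one_pow, _root_.one_mul, _root_.one_mul] at h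
    exact h
  have h2 : P (D.u a') (ε p) * P (D.u b') (ε q) = 1 := by
    rw [← fam_map hzp' hzq', show fam zp' zq' (Yo y) (ε p) (ε q) = 1 from θ.injective (h1.trans (map_one θ).symm),
      MonObj.one_comp]
  have h3 : (![ε p, ε q] : Fin 2 → Γ((Yo y).left, ⊤)) = 0 := by
    refine eq_of_prodPts (e := ![a', b']) (l := l) ?_ (fun k => ?_) ?_
    · intro i k hik
      have := congrArg (fun c => l (D.P.root c)) hik
      fin_cases i <;> fin_cases k <;> simp [hla1', hlb1'] at this ⊢
    · fin_cases k <;> simp [hla1', hlb1']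
    · rw [prodPts_cons_cons _ _ (fun k => k.elim0), prodPts_cons_cons _ _ (fun k => k.elim0)]
      simpa [P_zero] using h2
  exact ⟨ε.injective (by simpa using congrFun h3 0), ε.injective (by simpa using congrFun h3 1)⟩

end Groth.Agent.H82.Reduced
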