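import Groth.Agent.H82.Reduced.Frame

/-!
# There is no reductive group of semisimple rank one with a root whose double is a root
-/

set_option autoImplicit false
set_option linter.style.haveILetI false

universe u v w z

open Finset MvPolynomial

namespace Groth.Agent.H82.Reduced

variable {k : Type u} [Field k] {Γ : Type v} [Group Γ] {T : Type z} [CommGroup T]

theorem prod_ne_zero_fn (D : Data k Γ T) {ι : Type*} (S : Finset ι) (f : ι → Γ → k) (hR : ∀ i, f i ∈ D.R)
    (h0 : ∀ i, ∃ g, f i g ≠ 0) : (∏ i ∈ S, f i) ∈ D.R ∧ ∃ g, (∏ i ∈ S, f i) g ≠ 0 := by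
  classical
  induction S using Finset.induction_on with
  | empty => exact ⟨by simp, 1, by simp⟩
  | insert a S ha ih =>
    rw [Finset.prod_insert ha]
    refine ⟨D.R.mul_mem (hR a) ih.1, ?_⟩
    by_contra h
    push Not at h
    obtain ⟨g, hg⟩ := h0 a
    obtain ⟨g', hg'⟩ := ih.2
    rcases D.irr _ (hR a) _ ih.1 (funext h) with e | e
    · exact hg (congrFun e g)
    · exact hg' (congrFun e g')

/-- Clearing denominators. -/
theorem exists_clear {κ : Type*} (A : κ → Polynomial k) (Den : Polynomial k) (F : MvPolynomial κ k) :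
    ∃ (N : ℕ) (G : Polynomial k), ∀ τ : k, Den.eval τ ≠ 0 →
      G.eval τ = Den.eval τ ^ N * eval (fun l => (A l).eval τ / Den.eval τ) F := by
  induction F using MvPolynomial.induction_on with
  | C a => exact ⟨0, Polynomial.C a, fun τ _ => by simp⟩
  | add a b ha hb =>
    obtain ⟨N, G, hG⟩ := ha
    obtain ⟨N', G', hG'⟩ := hb
    refine ⟨N + N', Den ^ N' * G + Den ^ N * G', fun τ hτ => ?_⟩
    rw [Polynomial.eval_add, Polynomial.eval_mul, Polynomial.eval_mul, Polynomial.eval_pow, Polynomial.eval_pow,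
      hG τ hτ, hG' τ hτ, map_add]
    ring
  | mul_X a i ha =>
    obtain ⟨N, G, hG⟩ := ha
    refine ⟨N + 1, G * A i, fun τ hτ => ?_⟩
    rw [Polynomial.eval_mul, hG τ hτ, map_mul, eval_X, pow_succ]
    field_simp

theorem false_of_faithful [IsAlgClosed k] (D : Data k Γ T) {ι : Type*} [Finite ι] (V : ι → Type w)
    [∀ i, AddCommGroup (V i)] [∀ i, Module k (V i)] [∀ i, FiniteDimensional k (V i)] [∀ i, Nontrivial (V i)]
    (σ : ∀ i, Representation k Γ (V i)) (hs : ∀ i, Simple (σ i)) (hσ : ∀ i, Reg D (σ i))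
    (hfaith : ∀ p q, (∀ i, σ i (D.um p q) = 1) → p = 0 ∧ q = 0) : False := by
  classical
  haveI := Fintype.ofFinite ι
  have F : ∀ i, Frame D (σ i) := fun i => (exists_frame D (σ i) (hs i) (hσ i)).some
  -- only the trivial lower element fixes all highest weight vectors
  have stab : ∀ p q, (∀ i, σ i (D.um p q) (F i).v = (F i).v) → p = 0 ∧ q = 0 := fun p q h =>
    hfaith p q fun i => LinearMap.ext_on_range (v := fun a : k × k => σ i (D.um a.1 a.2) (F i).v) (F i).span fun a => by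
      rw [← Module.End.mul_apply, ← map_mul, ← D.um_add, add_comm p, add_comm q, D.um_add, map_mul,
        Module.End.mul_apply, h i]
      rfl
  have fix_of : ∀ i p q, (∀ j < 2 * (F i).m + 1, j ≠ 0 → (F i).ψ j p q = 0) →
      σ i (D.um p q) (F i).v = (F i).v := fun i p q h => by
    rw [(F i).sum, Finset.sum_eq_single_of_mem 0 (mem_range.2 (Nat.succ_pos _)) fun j hj hj0 =>
      h j (mem_range.1 hj) hj0, (F i).psi_zero]
  -- a representation with nonzero weight, and a point killing its lowest component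
  obtain ⟨i₀, hm₀⟩ : ∃ i, (F i).m ≠ 0 := by
    by_contra h
    push Not at h
    exact one_ne_zero (stab 1 0 fun i => fix_of i 1 0 fun j hj hj0 => absurd hj (by rw [h i]; omega)).1
  obtain ⟨p₀, q₀, hpq, hbot⟩ : ∃ p q : k, (p ≠ 0 ∨ q ≠ 0) ∧ (F i₀).ψ (2 * (F i₀).m) p q = 0 := by
    by_cases h1 : (F i₀).ψ (2 * (F i₀).m) 1 0 = 0
    · exact ⟨1, 0, Or.inl one_ne_zero, h1⟩
    obtain ⟨l, -, hl⟩ := (F i₀).exists_sep (by omega) ((F i₀).psi_eig _ 1 0) h1
    obtain ⟨P, hP, hPv⟩ := (F i₀).psi_poly (2 * (F i₀).m) l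
    obtain ⟨p, q, hpq, hz⟩ := exists_zero hP (by omega)
    obtain ⟨r, hr⟩ := (F i₀).bottom p q 1 0 h1
    refine ⟨p, q, hpq, ?_⟩
    rw [hr]
    rw [← hPv, hr, map_smul, hl, smul_eq_mul, mul_one] at hz
    rw [hz, zero_smul]
  -- the last nonvanishing components
  have hex : ∀ i, ∃ J ≤ 2 * (F i).m, (F i).ψ J p₀ q₀ ≠ 0 ∧
      ∀ j ≤ 2 * (F i).m, J < j → (F i).ψ j p₀ q₀ = 0 := fun i => by
    obtain ⟨J, hJ, hmax⟩ := Finset.exists_max_image
      ((range (2 * (F i).m + 1)).filter fun j => (F i).ψ j p₀ q₀ ≠ 0) id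
      ⟨0, Finset.mem_filter.2 ⟨mem_range.2 (Nat.succ_pos _), by rw [(F i).psi_zero]; exact (F i).v_ne⟩⟩
    obtain ⟨hJN, hne⟩ := Finset.mem_filter.1 hJ
    refine ⟨J, by have := mem_range.1 hJN; omega, hne, fun j hj hlt => ?_⟩
    by_contra h
    have := hmax j (Finset.mem_filter.2 ⟨mem_range.2 (by omega), h⟩)
    simp only [id] at this
    omega
  choose J hJle hJne hJmax using hex
  have hJ₀ : J i₀ < 2 * (F i₀).m := lt_of_le_of_ne (hJle i₀) fun h => hJne i₀ (h ▸ hbot)
  obtain ⟨i₁, hJ₁⟩ : ∃ i, 0 < J i := by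
    by_contra h
    push Not at h
    obtain ⟨hp, hq⟩ := stab p₀ q₀ fun i => fix_of i p₀ q₀ fun j hj hj0 =>
      hJmax i j (by omega) (by have := h i; omega)
    exact hpq.elim (fun e => e hp) fun e => e hq
  let L : ∀ i, V i := fun i => (F i).ψ (J i) p₀ q₀
  -- the top coordinates
  have hv0 : ∀ i, (F i).v ∈ eig D (σ i) (lev D (F i).μ 0) := fun i => by
    have := (F i).psi_eig 0 0 0
    rwa [(F i).psi_zero] at this
  choose top htop htop1 using fun i => (F i).exists_sep (Nat.succ_pos _) (hv0 i) (F i).v_ne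
  -- a generic translate
  obtain ⟨hprodR, g, hg⟩ := prod_ne_zero_fn D (Finset.univ : Finset (Option ι))
    (fun o => o.elim (fun g => D.h (g * D.um p₀ q₀)) fun i g => top i (σ i g (L i)))
    (fun o => by
      cases o with
      | none => exact D.rmul _ _ D.h_mem
      | some i => exact hσ i (L i) (top i))
    (fun o => by
      cases o with
      | none => exact ⟨(D.um p₀ q₀)⁻¹, by simpa using D.h_one⟩
      | some i =>
        exact exists_ne_zero_coef (σ i) (hs i) (hJne i) fun h => one_ne_zero ((htop1 i).symm.trans (by simp [h])))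
  rw [Finset.prod_apply, Finset.prod_ne_zero_iff] at hg
  have hgh : D.h (g * D.um p₀ q₀) ≠ 0 := hg none (Finset.mem_univ _)
  have hgt : ∀ i, top i (σ i g (L i)) ≠ 0 := fun i => hg (some i) (Finset.mem_univ _)
  -- the coordinates
  let κ := Σ i, {x : ℕ × Module.Dual k (V i) // 0 < x.1 ∧ x.1 < 2 * (F i).m + 1 ∧
    ∀ a < 2 * (F i).m + 1, a ≠ x.1 → ∀ z ∈ eig D (σ i) (lev D (F i).μ a), x.2 z = 0}
  choose G hGh hGv using fun x : κ => (F x.1).psi_poly x.2.1.1 x.2.1.2
  -- the curve
  let cw : ∀ i, Module.Dual k (V i) → Polynomial k := fun i l =>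
    ∑ j ∈ range (J i + 1), Polynomial.C (l (σ i g ((F i).ψ j p₀ q₀))) * Polynomial.X ^ (J i - j)
  have hcw0 : ∀ i l, (cw i l).eval 0 = l (σ i g (L i)) := fun i l => by
    simp only [cw, Polynomial.eval_finsetSum, Polynomial.eval_mul, Polynomial.eval_C, Polynomial.eval_pow,
      Polynomial.eval_X]
    rw [Finset.sum_eq_single_of_mem (J i) (mem_range.2 (Nat.lt_succ_self _)), Nat.sub_self, pow_zero, mul_one]
    intro j hj hjJ
    have := mem_range.1 hj
    rw [zero_pow (by omega), mul_zero]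
  have hcw : ∀ i l (τ : kˣ), l (σ i (g * D.iT (D.c τ) * D.um p₀ q₀) (F i).v) =
      (τ : k) ^ (((F i).m : ℤ) - J i) * (cw i l).eval (τ : k) := fun i l τ => by
    rw [map_mul, map_mul, Module.End.mul_apply, Module.End.mul_apply, (F i).sum, map_sum, map_sum, map_sum,
      ← Finset.sum_subset (range_mono (show J i + 1 ≤ 2 * (F i).m + 1 by have := hJle i; omega)) fun j hj hj' => ?_]
    · simp only [cw, Polynomial.eval_finsetSum, Polynomial.eval_mul, Polynomial.eval_C, Polynomial.eval_pow,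
        Polynomial.eval_X, Finset.mul_sum]
      refine Finset.sum_congr rfl fun j hj => ?_
      have := mem_range.1 hj
      rw [(F i).psi_eig j p₀ q₀ (D.c τ), lev_c D (F i).hm, map_smul, map_smul, smul_eq_mul,
        show ((F i).m : ℤ) - (j : ℤ) = (((F i).m : ℤ) - J i) + ((J i - j : ℕ) : ℤ) by omega,
        zpow_add₀ τ.ne_zero, zpow_natCast]
      ring
    · rw [hJmax i j (by have := mem_range.1 hj; omega) (by rw [mem_range, not_lt] at hj'; omega), map_zero, map_zero,
        map_zero]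
  obtain ⟨Nh, Ph, hPh⟩ := D.laurent _ (D.lmul g _ (D.rmul (D.um p₀ q₀) _ D.h_mem))
  have hPh1 : Ph.eval 1 ≠ 0 := by
    have := hPh 1
    simp only [map_one, mul_one, Units.val_one, one_pow] at this
    rw [← this]
    exact hgh
  let Den : Polynomial k := ∏ i, cw i (top i)
  have hDen0 : Den.eval 0 ≠ 0 := by
    simp only [Den, Polynomial.eval_prod, hcw0]
    exact Finset.prod_ne_zero_iff.2 fun i _ => hgt i
  let A : κ → Polynomial k := fun x => cw x.1 x.2.1.2 * ∏ i ∈ Finset.univ.erase x.1, cw i (top i)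
  have hA : ∀ (x : κ) τ, Den.eval τ ≠ 0 →
      (A x).eval τ / Den.eval τ = (cw x.1 x.2.1.2).eval τ / (cw x.1 (top x.1)).eval τ := fun x τ hτ => by
    simp only [A, Den, Polynomial.eval_mul, Polynomial.eval_prod] at hτ ⊢
    rw [← Finset.mul_prod_erase _ _ (Finset.mem_univ x.1)] at hτ ⊢
    obtain ⟨h1, h2⟩ := mul_ne_zero_iff.1 hτ
    field_simp
  obtain ⟨p', q', hp'⟩ := exists_preimage G (fun x => x.2.1.1) hGh (fun x => x.2.2.1)
    (fun p q h => stab p q fun i => fix_of i p q fun j hj hj0 => by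
      by_contra hne
      obtain ⟨l, hl, hl1⟩ := (F i).exists_sep hj ((F i).psi_eig j p q) hne
      have := h ⟨i, (j, l), Nat.pos_of_ne_zero hj0, hj, hl⟩
      rw [← hGv] at this
      exact one_ne_zero (hl1.symm.trans this))
    (fun x => x.2.1.2 (σ x.1 g (L x.1)) / top x.1 (σ x.1 g (L x.1))) (fun P hP => by
      obtain ⟨N, Q, hQ⟩ := exists_clear A Den P
      have hQ0 : Q * (Ph * Den) = 0 := poly_eq_zero fun τ hτ => by
        simp only [Polynomial.eval_mul, mul_eq_zero]
        refine or_iff_not_imp_right.2 fun hne => ?_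
        push Not at hne
        have hh : D.h (g * D.iT (D.c (Units.mk0 τ hτ)) * D.um p₀ q₀) ≠ 0 := fun e => hne.1 (by
          have := hPh (Units.mk0 τ hτ)
          simp only [Units.val_mk0] at this
          rw [← this, e, zero_mul])
        obtain ⟨p, q, t, p₂, q₂, hdec⟩ := D.cell _ hh
        have hl : ∀ i l, l (σ i (D.um p q) (F i).v) * (F i).μ t =
            τ ^ (((F i).m : ℤ) - J i) * (cw i l).eval τ := fun i l => by
          have := hcw i l (Units.mk0 τ hτ)
          rw [hdec, map_mul, map_mul, Module.End.mul_apply, Module.End.mul_apply, (F i).fixed, (F i).v_eig,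
            map_smul, map_smul, smul_eq_mul, Units.val_mk0] at this
          rw [← this, mul_comm]
        rw [hQ τ hne.2, show (fun x => (A x).eval τ / Den.eval τ) = fun x => eval (pt p q) (G x) from funext fun x => by
          rw [hA x τ hne.2, ← hGv, ← (F x.1).sep_sum x.2.2.2.1 x.2.2.2.2]
          have e1 := hl x.1 x.2.1.2
          have e2 := hl x.1 (top x.1)
          rw [(F x.1).sep_sum (Nat.succ_pos _) (htop x.1), (F x.1).psi_zero, htop1, one_mul] at e2
          rw [e2] at e1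
          have h2 : (cw x.1 (top x.1)).eval τ ≠ 0 := by
            have := hne.2
            simp only [Den, Polynomial.eval_prod] at this
            exact Finset.prod_ne_zero_iff.1 this _ (Finset.mem_univ _)
          rw [div_eq_iff h2]
          refine mul_left_cancel₀ (zpow_ne_zero (((F x.1).m : ℤ) - J x.1) hτ) ?_
          rw [← e1]; ring, hP, mul_zero]
      rcases mul_eq_zero.1 hQ0 with h | h
      · have := hQ 0 hDen0
        rw [h, Polynomial.eval_zero, eq_comm, mul_eq_zero, or_iff_right (pow_ne_zero _ hDen0)] at this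
        refine Eq.trans ?_ this
        refine congrArg (fun y => eval y P) (funext fun x => ?_)
        rw [hA x 0 hDen0, hcw0, hcw0]
      · rcases mul_eq_zero.1 h with h | h
        · exact absurd (by rw [h, Polynomial.eval_zero]) hPh1
        · exact absurd (by rw [h, Polynomial.eval_zero]) hDen0)
  -- moving the limit to the top
  let x : Γ := (D.um p' q')⁻¹ * g
  have hxL : ∀ i, σ i x (L i) = top i (σ i g (L i)) • (F i).v := fun i => by
    have key : σ i g (L i) = top i (σ i g (L i)) • σ i (D.um p' q') (F i).v := by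
      rw [← sub_eq_zero]
      refine (F i).eq_zero_of_sep fun j hj l hl => ?_
      rw [map_sub, map_smul, (F i).sep_sum hj hl, smul_eq_mul, sub_eq_zero]
      by_cases hj0 : j = 0
      · subst hj0
        rw [(F i).psi_zero]
        obtain ⟨f, hf⟩ := (Submodule.mem_iSup_finset_iff_exists_sum _ _).1 ((F i).top (σ i g (L i)))
        obtain ⟨r, hr⟩ := (F i).line _ (f 0).2
        rw [← hf, map_sum, map_sum, Finset.sum_eq_single_of_mem 0 (mem_range.2 hj) fun a ha ha0 =>
            hl a (mem_range.1 ha) ha0 _ (f a).2,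
          Finset.sum_eq_single_of_mem 0 (mem_range.2 hj) fun a ha ha0 => htop i a (mem_range.1 ha) ha0 _ (f a).2,
          hr, map_smul, map_smul, htop1, smul_eq_mul, smul_eq_mul, mul_one]
      · have := hp' ⟨i, (j, l), Nat.pos_of_ne_zero hj0, hj, hl⟩
        rw [← hGv] at this
        rw [show l ((F i).ψ j p' q') = l (σ i g (L i)) / top i (σ i g (L i)) from this, mul_div_cancel₀ _ (hgt i)]
    simp only [x, map_mul, Module.End.mul_apply]
    conv_lhs => rw [key]
    rw [map_smul, ← Module.End.mul_apply, ← map_mul, inv_mul_cancel, map_one, Module.End.one_apply]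
  -- a good torus element
  obtain ⟨N₂, P₂, hP₂⟩ := D.laurent _ (D.lmul x _ (D.rmul x⁻¹ _ D.h_mem))
  have hP₂1 : P₂.eval 1 ≠ 0 := by
    have := hP₂ 1
    simp only [map_one, Units.val_one, one_pow, mul_one, mul_inv_cancel] at this
    rw [← this]
    exact D.h_one
  let E : ℕ := J i₁ * (2 * (F i₀).m + 1) + (2 * (F i₀).m) * (2 * (F i₁).m + 1)
  obtain ⟨r, hr, hr'⟩ := exists_eval_ne (P := P₂ * ∏ e ∈ Finset.Icc 1 E, (Polynomial.X ^ e - Polynomial.C (1 : k)))
    (mul_ne_zero (fun h => hP₂1 (by rw [h, Polynomial.eval_zero])) (Finset.prod_ne_zero_iff.2 fun e he =>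
      Polynomial.X_pow_sub_C_ne_zero (Finset.mem_Icc.1 he).1 1))
  rw [Polynomial.eval_mul, mul_ne_zero_iff, Polynomial.eval_prod, Finset.prod_ne_zero_iff] at hr'
  let s : kˣ := Units.mk0 r hr
  let z : Γ := x * D.iT (D.c s) * x⁻¹
  obtain ⟨p₁, q₁, t, p₂, q₂, hz⟩ := D.cell z fun e => hr'.1 (by
    have := hP₂ s
    simp only [z] at e
    simp only [s, Units.val_mk0] at this e
    rw [← this, e, zero_mul])
  have hzconj : ∀ (i : ι) {w : V i} {a : ℤ}, σ i (D.iT (D.c s)) w = (s : k) ^ a • w →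
      σ i z (σ i x w) = (s : k) ^ a • σ i x w := fun i w a h => by
    rw [← Module.End.mul_apply, ← map_mul, show z * x = x * D.iT (D.c s) by simp [z], map_mul, Module.End.mul_apply,
      h, map_smul]
  have hzv : ∀ i, σ i z (F i).v = (s : k) ^ (((F i).m : ℤ) - J i) • (F i).v := fun i => by
    have h1 := hzconj i (((F i).psi_eig (J i) p₀ q₀ (D.c s)).trans
      (congrArg (· • L i) (lev_c D (F i).hm (J i) s)))
    rw [hxL, map_smul, smul_comm] at h1
    exact smul_right_injective _ (hgt i) h1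
  have hzum : ∀ i, (F i).μ t • σ i (D.um p₁ q₁) (F i).v = (s : k) ^ (((F i).m : ℤ) - J i) • (F i).v := fun i => by
    rw [← hzv i, hz, map_mul, map_mul, Module.End.mul_apply, Module.End.mul_apply, (F i).fixed, (F i).v_eig, map_smul]
  have hμt : ∀ i, (F i).μ t = (s : k) ^ (((F i).m : ℤ) - J i) := fun i => by
    have := congrArg (top i) (hzum i)
    rwa [map_smul, map_smul, (F i).sep_sum (Nat.succ_pos _) (htop i), (F i).psi_zero, htop1, smul_eq_mul,
      smul_eq_mul, mul_one, mul_one] at this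
  obtain ⟨rfl, rfl⟩ := stab p₁ q₁ fun i => by
    have := hzum i
    rw [hμt] at this
    exact smul_right_injective _ (zpow_ne_zero _ s.ne_zero) this
  rw [D.um_zero, one_mul] at hz
  -- eigenvalues
  have hβ : ∀ (i : ι) {w : V i} {a : ℤ}, w ≠ 0 → σ i (D.iT (D.c s)) w = (s : k) ^ a • w →
      ∃ j ≤ 2 * (F i).m, (s : k) ^ a = (s : k) ^ (((F i).m : ℤ) - J i) * (((D.α⁻¹) t : kˣ) : k) ^ j := by
    intro i w a hw h
    obtain ⟨j, hj, e⟩ := (F i).eigenvalue (hσ i) t p₂ q₂ (y := σ i x w) (fun e => hw (by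
      rw [← Module.End.one_apply (R := k) w, ← map_one (σ i), ← inv_mul_cancel x, map_mul, Module.End.mul_apply, e,
        map_zero])) (a := (s : k) ^ a) (hz ▸ hzconj i h)
    exact ⟨j, by omega, by rw [e, lev, hμt]⟩
  obtain ⟨j', hj', e'⟩ := hβ i₁ (F i₁).v_ne (((F i₁).v_eig (D.c s)).trans (by rw [(F i₁).hm]))
  obtain ⟨y, hy0, hy⟩ := (F i₀).low
  obtain ⟨j'', hj'', e''⟩ := hβ i₀ hy0 (hy s)
  set β : k := (((D.α⁻¹) t : kˣ) : k)
  have hs0 : (s : k) ≠ 0 := s.ne_zero
  have b1 : β ^ j' = (s : k) ^ (J i₁ : ℤ) := by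
    refine mul_left_cancel₀ (zpow_ne_zero (((F i₁).m : ℤ) - J i₁) hs0) ?_
    rw [← e', ← zpow_add₀ hs0]
    congr 1
    ring
  have b2 : β ^ j'' = (s : k) ^ ((J i₀ : ℤ) - 2 * (F i₀).m) := by
    refine mul_left_cancel₀ (zpow_ne_zero (((F i₀).m : ℤ) - J i₀) hs0) ?_
    rw [← e'', ← zpow_add₀ hs0]
    congr 1
    ring
  have hj'0 : j' ≠ 0 := fun e => by
    rw [e, pow_zero, zpow_natCast] at b1
    refine hr'.2 (J i₁) (Finset.mem_Icc.2 ⟨hJ₁, ?_⟩) ?_
    · simp only [E]; nlinarith
    · simpa [s, sub_eq_zero] using b1.symm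
  let e : ℕ := J i₁ * j'' + (2 * (F i₀).m - J i₀) * j'
  have he1 : 1 ≤ e := by
    have : 1 ≤ (2 * (F i₀).m - J i₀) * j' := Nat.mul_pos (by omega) (Nat.pos_of_ne_zero hj'0)
    simp only [e]; omega
  have heE : e ≤ E := by
    have h1 : J i₁ * j'' ≤ J i₁ * (2 * (F i₀).m + 1) := Nat.mul_le_mul_left _ (by omega)
    have h2 : (2 * (F i₀).m - J i₀) * j' ≤ (2 * (F i₀).m) * (2 * (F i₁).m + 1) :=
      Nat.mul_le_mul (by omega) (by omega)
    simp only [e, E]; omega
  refine hr'.2 e (Finset.mem_Icc.2 ⟨he1, heE⟩) ?_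
  have key : (s : k) ^ (e : ℤ) = 1 := by
    have h12 : ((s : k) ^ (J i₁ : ℤ)) ^ (j'' : ℤ) = ((s : k) ^ ((J i₀ : ℤ) - 2 * (F i₀).m)) ^ (j' : ℤ) := by
      rw [← b1, ← b2, zpow_natCast, zpow_natCast, ← pow_mul, ← pow_mul, mul_comm]
    rw [← zpow_mul, ← zpow_mul] at h12
    have hexp : (e : ℤ) = (J i₁ : ℤ) * j'' + (-(((J i₀ : ℤ) - 2 * (F i₀).m) * j')) := by
      simp only [e]
      push_cast [Nat.cast_sub hJ₀.le]
      ring
    rw [hexp, zpow_add₀ hs0, h12, zpow_neg, mul_inv_cancel₀ (zpow_ne_zero _ hs0)]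
  simpa [s, sub_eq_zero, zpow_natCast] using key

end Groth.Agent.H82.Reduced
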