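import Groth.Agent.H82.Reduced.Poly
import Mathlib.Algebra.Group.Pi.Units
import Mathlib.RepresentationTheory.Basic
import Mathlib.LinearAlgebra.Eigenspace.Triangularizable

/-!
# Highest weight vectors of representations with two commuting unipotent families
-/

set_option autoImplicit false
set_option linter.style.haveILetI false

universe u v w z

open Finset MvPolynomial

namespace Groth.Agent.H82.Reduced

variable {k : Type u} [Field k]

theorem exists_unit_ne_one [IsAlgClosed k] {d : ℤ} (hd : d ≠ 0) : ∃ s : kˣ, s ^ d ≠ 1 := by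
  have hP : (Polynomial.X ^ d.natAbs - Polynomial.C 1 : Polynomial k) ≠ 0 :=
    Polynomial.X_pow_sub_C_ne_zero (Int.natAbs_pos.2 hd) 1
  obtain ⟨r, hr, hr'⟩ := exists_eval_ne hP
  refine ⟨Units.mk0 r hr, fun h => hr' ?_⟩
  have h2 : Units.mk0 r hr ^ d.natAbs = 1 := by
    rcases Int.natAbs_eq d with e | e <;> rw [e] at h <;> simpa using h
  simpa [sub_eq_zero] using congrArg Units.val h2

theorem zpow_inj_of_forall [IsAlgClosed k] {a b : ℤ} (h : ∀ s : kˣ, (s : k) ^ a = (s : k) ^ b) : a = b := by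
  by_contra hne
  obtain ⟨s, hs⟩ := exists_unit_ne_one (k := k) (sub_ne_zero.2 hne)
  refine hs (Units.ext ?_)
  rw [Units.val_zpow_eq_zpow_val, zpow_sub₀ s.ne_zero, h s, div_self (zpow_ne_zero _ s.ne_zero), Units.val_one]

/-- Distinct powers are independent. -/
theorem eq_zero_of_zpow_sum [IsAlgClosed k] {V : Type w} [AddCommGroup V] [Module k V] {α : Type*} {F : Finset α}
    (e : α → ℤ) (he : Set.InjOn e F) (y : α → V) (h : ∀ s : kˣ, ∑ i ∈ F, (s : k) ^ e i • y i = 0) {i : α}
    (hi : i ∈ F) : y i = 0 := by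
  classical
  let B : ℕ := ∑ j ∈ F, (e j).natAbs
  have hB : ∀ j ∈ F, 0 ≤ e j + B := fun j hj => by
    have := Finset.single_le_sum (f := fun j => (e j).natAbs) (fun _ _ => Nat.zero_le _) hj
    omega
  have h2B : ∀ j ∈ F, (e j + B).toNat < 2 * B + 1 := fun j hj => by
    have := Finset.single_le_sum (f := fun j => (e j).natAbs) (fun _ _ => Nat.zero_le _) hj
    omega
  let Y : ℕ → V := fun a => ∑ j ∈ F with (e j + B).toNat = a, y j
  have hY : ∀ r : k, r ≠ 0 → ∑ a ∈ range (2 * B + 1), r ^ a • Y a = 0 := fun r hr => by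
    have h1 := congrArg (fun x => r ^ B • x) (h (Units.mk0 r hr))
    rw [smul_zero, Finset.smul_sum] at h1
    refine Eq.trans ?_ h1
    simp only [Y, Finset.smul_sum]
    rw [← Finset.sum_fiberwise_of_maps_to (g := fun j => (e j + B).toNat) (fun j hj => mem_range.2 (h2B j hj))]
    refine Finset.sum_congr rfl fun a _ => Finset.sum_congr rfl fun j hj => ?_
    obtain ⟨hjF, rfl⟩ := Finset.mem_filter.1 hj
    rw [smul_smul, Units.val_mk0, ← zpow_natCast, ← zpow_natCast, ← zpow_add₀ hr, Int.toNat_of_nonneg (hB j hjF)]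
    congr 2
    ring
  have h3 := eq_zero_of_pow_sum Y hY (h2B i hi)
  simp only [Y] at h3
  have hmem : i ∈ F.filter fun j => (e j + B).toNat = (e i + B).toNat := Finset.mem_filter.2 ⟨hi, rfl⟩
  refine (Finset.sum_eq_single_of_mem i hmem ?_).symm.trans h3
  intro j hj hji
  obtain ⟨hjF, hj'⟩ := Finset.mem_filter.1 hj
  refine absurd (he hjF hi ?_) hji
  have := hB j hjF
  have := hB i hi
  omega

/-- A function on units which is a Laurent polynomial. -/
def IsLaurent (f : kˣ → k) : Prop :=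
  ∃ (N : ℕ) (P : Polynomial k), ∀ s : kˣ, f s * (s : k) ^ N = P.eval (s : k)

/-- A multiplicative Laurent polynomial is a power. -/
theorem IsLaurent.exists_zpow [IsAlgClosed k] {f : kˣ → k} (h : IsLaurent f) (h1 : f 1 = 1)
    (hm : ∀ s t, f (s * t) = f s * f t) : ∃ m : ℤ, ∀ s, f s = (s : k) ^ m := by
  obtain ⟨N, P, hP⟩ := h
  have hP0 : P ≠ 0 := fun h0 => by simpa [h1, h0] using hP 1
  have hkey : ∀ t : kˣ, f t * (t : k) ^ N = (t : k) ^ P.natDegree := fun t => by
    have h0 : P.comp (Polynomial.C (t : k) * Polynomial.X) - Polynomial.C (f t * (t : k) ^ N) * P = 0 :=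
      poly_eq_zero fun r hr => by
        have e1 := hP (t * Units.mk0 r hr)
        have e2 := hP (Units.mk0 r hr)
        rw [Units.val_mk0] at e2
        rw [Units.val_mul, Units.val_mk0, hm, mul_pow] at e1
        simp only [Polynomial.eval_sub, Polynomial.eval_comp, Polynomial.eval_mul, Polynomial.eval_C, Polynomial.eval_X]
        rw [← e1, ← e2]
        ring
    have h2 := congrArg (fun Q => Polynomial.coeff Q P.natDegree) h0
    simp only [Polynomial.coeff_sub, Polynomial.comp_C_mul_X_coeff, Polynomial.coeff_C_mul, Polynomial.coeff_zero] at h2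
    have h3 : P.coeff P.natDegree ≠ 0 := Polynomial.leadingCoeff_ne_zero.2 hP0
    rw [mul_comm (f t * _), ← mul_sub, mul_eq_zero, or_iff_right h3, sub_eq_zero] at h2
    exact h2.symm
  refine ⟨(P.natDegree : ℤ) - N, fun s => ?_⟩
  rw [zpow_sub₀ s.ne_zero, zpow_natCast, zpow_natCast, ← hkey s, mul_div_assoc, div_self (pow_ne_zero _ s.ne_zero),
    mul_one]

/-- The situation of a group with a torus, two opposite commutative unipotent families with weights
`∓1, ∓2` and an open cell. -/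
structure Data (k : Type u) [Field k] (Γ : Type v) [Group Γ] (T : Type z) [CommGroup T] where
  R : Subalgebra k (Γ → k)
  irr : ∀ f ∈ R, ∀ g ∈ R, f * g = 0 → f = 0 ∨ g = 0
  lmul : ∀ a : Γ, ∀ f ∈ R, (fun g => f (a * g)) ∈ R
  rmul : ∀ a : Γ, ∀ f ∈ R, (fun g => f (g * a)) ∈ R
  iT : T →* Γ
  α : T →* kˣ
  c : kˣ →* T
  α_c : ∀ s, α (c s) = s
  um : k → k → Γ
  up : k → k → Γ
  um_add : ∀ p q p' q', um (p + p') (q + q') = um p q * um p' q'
  up_add : ∀ p q p' q', up (p + p') (q + q') = up p q * up p' q'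
  conj_um : ∀ t p q, iT t * um p q = um (((α⁻¹) t : kˣ) * p) (((α⁻¹) t : kˣ) ^ 2 * q) * iT t
  conj_up : ∀ t p q, iT t * up p q = up ((α t : k) * p) ((α t : k) ^ 2 * q) * iT t
  poly_um : ∀ f ∈ R, ∃ P : MvPolynomial (Fin 2) k, ∀ p q, f (um p q) = eval (pt p q) P
  poly_up : ∀ f ∈ R, ∃ P : MvPolynomial (Fin 2) k, ∀ p q, f (up p q) = eval (pt p q) P
  laurent : ∀ f ∈ R, IsLaurent fun s => f (iT (c s))
  h : Γ → k
  h_mem : h ∈ R
  h_one : h 1 ≠ 0
  cell : ∀ g, h g ≠ 0 → ∃ p q t p' q', g = um p q * iT t * up p' q'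
  n : Γ
  n_c : ∀ s, n * iT (c s) = iT (c s⁻¹) * n

variable {Γ : Type v} [Group Γ] {T : Type z} [CommGroup T] (D : Data k Γ T)
  {V : Type w} [AddCommGroup V] [Module k V] (σ : Representation k Γ V)

theorem Data.um_zero : D.um 0 0 = 1 := by simpa using D.um_add 0 0 0 0

theorem Data.up_zero : D.up 0 0 = 1 := by simpa using D.up_add 0 0 0 0

/-- Regular matrix coefficients. -/
def Reg : Prop := ∀ (x : V) (l : Module.Dual k V), (fun g => l (σ g x)) ∈ D.R

/-- The eigenspace of a character of the torus. -/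
def eig (μ : T → k) : Submodule k V where
  carrier := {x | ∀ t, σ (D.iT t) x = μ t • x}
  add_mem' := fun {x y} hx hy t => by rw [map_add, hx t, hy t, smul_add]
  zero_mem' := fun t => by rw [map_zero, smul_zero]
  smul_mem' := fun r x hx t => by rw [map_smul, hx t, smul_comm]

theorem exists_expand [IsAlgClosed k] [FiniteDimensional k V] (u : k → k → Γ) (β : T →* kˣ)
    (hu0 : u 0 0 = 1)
    (hconj : ∀ t p q, D.iT t * u p q = u ((β t : k) * p) ((β t : k) ^ 2 * q) * D.iT t)
    (hpoly : ∀ f ∈ D.R, ∃ P : MvPolynomial (Fin 2) k, ∀ p q, f (u p q) = eval (pt p q) P)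
    (hσ : Reg D σ) {μ : T → k} {x : V} (hx : x ∈ eig D σ μ) :
    ∃ (N : ℕ) (ψ : ℕ → k → k → V), 0 < N ∧
      (∀ p q, σ (u p q) x = ∑ j ∈ range N, ψ j p q) ∧ (∀ p q, ψ 0 p q = x) ∧
      (∀ j r p q, ψ j (r * p) (r ^ 2 * q) = r ^ j • ψ j p q) ∧
      (∀ j p q, ψ j p q ∈ eig D σ fun t => μ t * (β t : k) ^ j) ∧
      (∀ j (l : Module.Dual k V), ∃ P : MvPolynomial (Fin 2) k,
        IsWeightedHomogeneous wt P j ∧ ∀ p q, l (ψ j p q) = eval (pt p q) P) := by
  classical
  let b := Module.finBasis k V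
  choose P hP using fun a => hpoly _ (hσ x (b.coord a))
  let N := (Finset.univ.sup fun a => weightedTotalDegree wt (P a)) + 1
  let ψ : ℕ → k → k → V := fun j p q => ∑ a, eval (pt p q) (weightedHomogeneousComponent wt j (P a)) • b a
  have hψl : ∀ j (l : Module.Dual k V), ∃ P' : MvPolynomial (Fin 2) k,
      IsWeightedHomogeneous wt P' j ∧ ∀ p q, l (ψ j p q) = eval (pt p q) P' := fun j l =>
    ⟨∑ a, C (l (b a)) * weightedHomogeneousComponent wt j (P a),
      IsWeightedHomogeneous.sum _ _ _ fun a _ => (weightedHomogeneousComponent_isWeightedHomogeneous _ _).C_mul _,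
      fun p q => by simp [ψ, mul_comm]⟩
  have hscale : ∀ j r p q, ψ j (r * p) (r ^ 2 * q) = r ^ j • ψ j p q := fun j r p q => by
    simp only [ψ, Finset.smul_sum, smul_smul]
    exact Finset.sum_congr rfl fun a _ => by
      rw [eval_pt_scale (weightedHomogeneousComponent_isWeightedHomogeneous _ _)]
  have hcomp : ∀ a, ∑ j ∈ range N, weightedHomogeneousComponent wt j (P a) = P a := fun a => by
    conv_rhs => rw [← sum_weightedHomogeneousComponent (w := wt) (φ := P a)]
    rw [finsum_eq_sum_of_support_subset]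
    intro j hj
    simp only [Function.mem_support] at hj
    rw [Finset.coe_range, Set.mem_Iio]
    by_contra hlt
    refine hj (weightedHomogeneousComponent_eq_zero j (P a) (lt_of_lt_of_le ?_ (not_lt.1 hlt)))
    exact Nat.lt_succ_of_le (Finset.le_sup (f := fun a => weightedTotalDegree wt (P a)) (Finset.mem_univ a))
  have hsum : ∀ p q, σ (u p q) x = ∑ j ∈ range N, ψ j p q := fun p q => by
    simp only [ψ]
    rw [Finset.sum_comm]
    conv_lhs => rw [← b.sum_repr (σ (u p q) x)]
    refine Finset.sum_congr rfl fun a _ => ?_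
    rw [← Finset.sum_smul, ← map_sum, hcomp, ← hP]
    rfl
  refine ⟨N, ψ, Nat.succ_pos _, hsum, fun p q => ?_, hscale, fun j p q t => ?_, hψl⟩
  · have h0 : ψ 0 p q = ψ 0 0 0 := by simpa using (hscale 0 0 p q).symm
    have h1 := hsum 0 0
    rw [hu0, map_one, Module.End.one_apply, Finset.sum_eq_single_of_mem 0 (mem_range.2 (Nat.succ_pos _))] at h1
    · exact h0.trans h1.symm
    · intro j _ hj
      simpa [zero_pow hj] using hscale j 0 0 0
  · by_cases hj : j < N
    · refine sub_eq_zero.1 (eq_zero_of_pow_sum (k := k) (N := N)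
        (fun j => σ (D.iT t) (ψ j p q) - (μ t * (β t : k) ^ j) • ψ j p q) (fun r _ => ?_) hj)
      simp only [smul_sub, Finset.sum_sub_distrib]
      rw [sub_eq_zero]
      have h1 : σ (D.iT t) (σ (u (r * p) (r ^ 2 * q)) x) =
          μ t • σ (u ((β t : k) * (r * p)) ((β t : k) ^ 2 * (r ^ 2 * q))) x := by
        rw [← Module.End.mul_apply, ← map_mul, hconj, map_mul, Module.End.mul_apply, hx t, map_smul]
      rw [hsum, hsum, map_sum, Finset.smul_sum] at h1
      refine Eq.trans ?_ (h1.trans ?_)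
      · exact Finset.sum_congr rfl fun j _ => by rw [hscale, map_smul]
      · exact Finset.sum_congr rfl fun j _ => by
          rw [hscale, hscale, smul_smul, smul_smul, smul_smul]; ring_nf
    · have hz : ψ j p q = 0 := by
        simp only [ψ]
        refine Finset.sum_eq_zero fun a _ => ?_
        rw [weightedHomogeneousComponent_eq_zero j (P a) (lt_of_lt_of_le (Nat.lt_succ_of_le
          (Finset.le_sup (f := fun a => weightedTotalDegree wt (P a)) (Finset.mem_univ a))) (not_lt.1 hj)),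
          map_zero, zero_smul]
      rw [hz, map_zero, smul_zero]

/-- The components of an orbit lie in its span. -/
theorem mem_of_expand [IsAlgClosed k] {N : ℕ} {ψ : ℕ → k → k → V} (U : Submodule k V)
    (hscale : ∀ j r p q, ψ j (r * p) (r ^ 2 * q) = r ^ j • ψ j p q)
    (hU : ∀ p q, ∑ j ∈ range N, ψ j p q ∈ U) {j : ℕ} (hj : j < N) (p q : k) : ψ j p q ∈ U := by
  rw [← Submodule.Quotient.mk_eq_zero]
  refine eq_zero_of_pow_sum (k := k) (N := N) (fun j => U.mkQ (ψ j p q)) (fun r _ => ?_) hj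
  have h1 := hU (r * p) (r ^ 2 * q)
  rw [← Submodule.Quotient.mk_eq_zero] at h1
  refine Eq.trans ?_ h1
  show _ = U.mkQ _
  rw [map_sum]
  exact Finset.sum_congr rfl fun j _ => by rw [hscale, map_smul]

/-- Commuting families of operators have common eigenvectors. -/
theorem exists_eig [IsAlgClosed k] [FiniteDimensional k V] [Nontrivial V] :
    ∃ (μ : T → k) (x : V), x ≠ 0 ∧ x ∈ eig D σ μ := by
  suffices ∀ (n : ℕ) (U : Submodule k V), Module.finrank k U ≤ n → U ≠ ⊥ → (∀ t, ∀ x ∈ U, σ (D.iT t) x ∈ U) →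
      ∃ (μ : T → k) (x : V), x ≠ 0 ∧ x ∈ eig D σ μ from
    this _ ⊤ le_rfl top_ne_bot fun _ _ _ => Submodule.mem_top
  intro n
  induction n with
  | zero => exact fun U hn hU => absurd (Submodule.finrank_eq_zero.1 (Nat.le_zero.1 hn)) hU
  | succ n ih =>
    intro U hn hU hst
    by_cases hsc : ∀ t, ∃ a : k, ∀ x ∈ U, σ (D.iT t) x = a • x
    · choose μ hμ using hsc
      obtain ⟨x, hx, hx0⟩ := (Submodule.ne_bot_iff U).1 hU
      exact ⟨μ, x, hx0, fun t => hμ t x hx⟩
    push Not at hsc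
    obtain ⟨t, ht⟩ := hsc
    haveI : Nontrivial U := Submodule.nontrivial_iff_ne_bot.2 hU
    obtain ⟨a, ha⟩ := Module.End.exists_eigenvalue ((σ (D.iT t)).restrict (hst t))
    obtain ⟨y, hy⟩ := ha.exists_hasEigenvector
    obtain ⟨x, hxU, hx⟩ := ht a
    let U' : Submodule k V := U ⊓ LinearMap.ker (σ (D.iT t) - a • LinearMap.id)
    have hlt : U' < U := lt_of_le_of_ne inf_le_left fun h => hx (by
      have h1 : x ∈ U' := by rw [h]; exact hxU
      simpa [sub_eq_zero] using h1.2)
    refine ih U' (by have := Submodule.finrank_lt_finrank_of_lt hlt; omega) ((Submodule.ne_bot_iff _).2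
      ⟨y, ⟨y.2, ?_⟩, fun h => hy.2 (Subtype.ext h)⟩) fun t' z hz => ⟨hst t' z hz.1, ?_⟩
    · have := congrArg Subtype.val hy.apply_eq_smul
      simpa [sub_eq_zero] using this
    · have hz2 : σ (D.iT t) z = a • z := by simpa [sub_eq_zero] using hz.2
      simp only [SetLike.mem_coe, LinearMap.mem_ker, LinearMap.sub_apply, LinearMap.smul_apply, LinearMap.id_coe,
        id_eq, sub_eq_zero]
      rw [← Module.End.mul_apply, ← map_mul, ← map_mul, mul_comm, map_mul, map_mul, Module.End.mul_apply, hz2,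
        map_smul]

/-- The character of an eigenvector on the cocharacter is a power. -/
theorem exists_weight [IsAlgClosed k] (hσ : Reg D σ) {μ : T → k} {x : V} (hx : x ∈ eig D σ μ) (hx0 : x ≠ 0) :
    (μ 1 = 1) ∧ (∀ t, μ t ≠ 0) ∧ ∃ m : ℤ, ∀ s, μ (D.c s) = (s : k) ^ m := by
  have hcancel : ∀ {a b : k}, a • x = b • x → a = b := fun h => smul_left_injective k hx0 h
  have h1 : μ 1 = 1 := hcancel (by rw [← hx 1, map_one, map_one, Module.End.one_apply, one_smul])
  have hmul : ∀ t t', μ (t * t') = μ t * μ t' := fun t t' => hcancel (by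
    rw [← hx, map_mul, map_mul, Module.End.mul_apply, hx t', map_smul, hx t, smul_smul, mul_comm])
  refine ⟨h1, fun t h => ?_, IsLaurent.exists_zpow (f := fun s => μ (D.c s)) ?_ (by simpa using h1)
    fun s t => by simp [hmul]⟩
  · have := hmul t t⁻¹
    rw [mul_inv_cancel, h1, h, zero_mul] at this
    exact one_ne_zero this
  · obtain ⟨l, hl⟩ := not_forall.1 (mt (Module.forall_dual_apply_eq_zero_iff k x).1 hx0)
    obtain ⟨N, P, hP⟩ := D.laurent _ (hσ x ((l x)⁻¹ • l))
    refine ⟨N, P, fun s => ?_⟩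
    rw [← hP s]
    simp only [hx (D.c s)]
    simp [hl]

/-- A highest weight vector. -/
theorem exists_top [IsAlgClosed k] [FiniteDimensional k V] [Nontrivial V] (hσ : Reg D σ) :
    ∃ (μ : T → k) (v : V), v ≠ 0 ∧ v ∈ eig D σ μ ∧ ∀ p q, σ (D.up p q) v = v := by
  classical
  obtain ⟨μ, x, hx0, hx⟩ := exists_eig D σ
  obtain ⟨-, hμ0, m, hm⟩ := exists_weight D σ hσ hx hx0
  obtain ⟨N, φ, hN, hsum, hφ0, hscale, heig, -⟩ := exists_expand D σ D.up D.α D.up_zero D.conj_up D.poly_up hσ hx
  let S : Submodule k V := Submodule.span k (Set.range fun a : k × k => σ (D.up a.1 a.2) x)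
  have hSst : ∀ p q, ∀ y ∈ S, σ (D.up p q) y ∈ S := fun p q y hy => by
    have : S ≤ S.comap (σ (D.up p q)) := Submodule.span_le.2 fun _ ⟨a, ha⟩ => by
      subst ha
      refine Submodule.subset_span ⟨(p + a.1, q + a.2), ?_⟩
      show σ (D.up (p + a.1) (q + a.2)) x = _
      rw [D.up_add, map_mul, Module.End.mul_apply]
    exact this hy
  have hφS : ∀ j, j < N → ∀ p q, φ j p q ∈ S := fun j hj p q =>
    mem_of_expand S hscale (fun p q => by rw [← hsum]; exact Submodule.subset_span ⟨(p, q), rfl⟩) hj p q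
  obtain ⟨J, hJ, hmax⟩ := Finset.exists_max_image ((range N).filter fun j => ∃ p q, φ j p q ≠ 0) id
    ⟨0, Finset.mem_filter.2 ⟨mem_range.2 hN, 0, 0, by rw [hφ0]; exact hx0⟩⟩
  obtain ⟨hJN, p₀, q₀, hne⟩ := Finset.mem_filter.1 hJ
  refine ⟨_, φ J p₀ q₀, hne, heig J p₀ q₀, fun p q => ?_⟩
  obtain ⟨N', χ, hN', hsum', hχ0, hscale', heig', -⟩ :=
    exists_expand D σ D.up D.α D.up_zero D.conj_up D.poly_up hσ (heig J p₀ q₀)
  rw [hsum', Finset.sum_eq_single_of_mem 0 (mem_range.2 hN'), hχ0]
  intro i hi hi0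
  have hmem : χ i p q ∈ S := mem_of_expand S hscale' (fun p q => by
    rw [← hsum']; exact hSst p q _ (hφS J (mem_range.1 hJN) p₀ q₀)) (mem_range.1 hi) p q
  have hS : S ≤ ⨆ j ∈ range (J + 1), eig D σ fun t => μ t * (D.α t : k) ^ j := Submodule.span_le.2 fun _ ⟨a, ha⟩ => by
    subst ha
    simp only [SetLike.mem_coe, hsum]
    refine Submodule.sum_mem _ fun j hj => ?_
    by_cases hjJ : j < J + 1
    · exact Submodule.mem_iSup_of_mem j (Submodule.mem_iSup_of_mem (mem_range.2 hjJ) (heig j a.1 a.2))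
    · rw [show φ j a.1 a.2 = 0 by
        by_contra h0
        exact hjJ (Nat.lt_succ_of_le (hmax j (Finset.mem_filter.2 ⟨hj, a.1, a.2, h0⟩)))]
      exact Submodule.zero_mem _
  obtain ⟨f, hf⟩ := (Submodule.mem_iSup_finset_iff_exists_sum _ _).1 (hS hmem)
  let y : Option ℕ → V := fun o => o.elim (-χ i p q) fun j => (f j : V)
  have := eq_zero_of_zpow_sum (k := k) (F := insert none ((range (J + 1)).image some))
    (fun o : Option ℕ => o.elim ((J : ℤ) + i) fun j => (j : ℤ)) ?_ y (fun s => ?_) (Finset.mem_insert_self _ _)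
  · simpa [y] using this
  · intro a ha b hb hab
    simp only [Finset.coe_insert, Finset.coe_image, Finset.coe_range, Set.mem_insert_iff, Set.mem_image,
      Set.mem_Iio] at ha hb
    rcases ha with rfl | ⟨a, ha, rfl⟩ <;> rcases hb with rfl | ⟨b, hb, rfl⟩ <;> simp only [Option.elim] at hab
    · rfl
    · omega
    · omega
    · simpa using hab
  · have e1 := congrArg (σ (D.iT (D.c s))) hf
    rw [map_sum, heig' i p q (D.c s)] at e1
    rw [Finset.sum_insert (by simp), Finset.sum_image (by simp)]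
    simp only [Option.elim, y, smul_neg]
    rw [neg_add_eq_zero]
    refine smul_right_injective V (hμ0 (D.c s)) ?_
    simp only [smul_smul, Finset.smul_sum]
    simp only [D.α_c] at e1
    rw [zpow_add₀ s.ne_zero, zpow_natCast, zpow_natCast, ← mul_assoc, ← e1]
    exact Finset.sum_congr rfl fun j _ => by rw [(f j).2 (D.c s)]; simp only [D.α_c, zpow_natCast]

end Groth.Agent.H82.Reduced
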