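import Groth.Agent.H82.Reduced.Expand

/-!
# The weight decomposition of a simple representation
-/

set_option autoImplicit false
set_option linter.style.haveILetI false

universe u v w z

open Finset MvPolynomial

namespace Groth.Agent.H82.Reduced

variable {k : Type u} [Field k] {Γ : Type v} [Group Γ] {T : Type z} [CommGroup T] (D : Data k Γ T)
  {V : Type w} [AddCommGroup V] [Module k V] (σ : Representation k Γ V)

/-- Simple representations. -/
def Simple : Prop := ∀ U : Submodule k V, (∀ g, ∀ x ∈ U, σ g x ∈ U) → U = ⊥ ∨ U = ⊤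

theorem span_orbit_eq_top (hs : Simple σ) {x : V} (hx : x ≠ 0) :
    Submodule.span k (Set.range fun g => σ g x) = ⊤ := by
  refine (hs _ fun g y hy => ?_).resolve_left fun h => hx ?_
  · have : Submodule.span k (Set.range fun g => σ g x) ≤ (Submodule.span k (Set.range fun g => σ g x)).comap (σ g) :=
      Submodule.span_le.2 fun _ ⟨a, ha⟩ => Submodule.subset_span ⟨g * a, by
        subst ha
        show σ (g * a) x = _
        rw [map_mul, Module.End.mul_apply]⟩
    exact this hy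
  · rw [← Submodule.mem_bot k, ← h]
    exact Submodule.subset_span ⟨1, by simp⟩

theorem exists_ne_zero_coef (hs : Simple σ) {x : V} (hx : x ≠ 0) {l : Module.Dual k V} (hl : l ≠ 0) :
    ∃ g, l (σ g x) ≠ 0 := by
  by_contra h
  push Not at h
  refine hl (LinearMap.ext fun y => ?_)
  have hy : y ∈ Submodule.span k (Set.range fun g => σ g x) := span_orbit_eq_top σ hs hx ▸ Submodule.mem_top
  exact (Submodule.span_le (R := k) (s := Set.range fun g => σ g x) (p := LinearMap.ker l)).2 (fun _ ⟨g, hg⟩ => hg ▸ h g) hy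

/-- The orbit of a highest weight vector under the lower family spans. -/
theorem span_um_eq_top (hs : Simple σ) (hσ : Reg D σ) {μ : T → k} {v : V} (hv0 : v ≠ 0)
    (hv : v ∈ eig D σ μ) (hfix : ∀ p q, σ (D.up p q) v = v) :
    Submodule.span k (Set.range fun a : k × k => σ (D.um a.1 a.2) v) = ⊤ := by
  by_contra hne
  obtain ⟨y, hy⟩ := SetLike.exists_not_mem_of_ne_top _ hne rfl
  obtain ⟨l, hly, hl⟩ := Submodule.exists_dual_map_eq_bot_of_notMem hy inferInstance
  obtain ⟨g₀, hg₀⟩ := exists_ne_zero_coef σ hs hv0 (l := l) fun h => hly (by simp [h])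
  have hprod : (fun g => l (σ g v)) * D.h = 0 := funext fun g => by
    show l (σ g v) * D.h g = 0
    by_cases hg : D.h g = 0
    · rw [hg, mul_zero]
    · obtain ⟨p, q, t, p', q', rfl⟩ := D.cell g hg
      rw [map_mul, map_mul, Module.End.mul_apply, Module.End.mul_apply, hfix, hv t, map_smul, map_smul]
      have : l (σ (D.um p q) v) ∈ Submodule.map l (Submodule.span k (Set.range fun a : k × k => σ (D.um a.1 a.2) v)) :=
        Submodule.mem_map_of_mem (Submodule.subset_span ⟨(p, q), rfl⟩)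
      rw [hl, Submodule.mem_bot] at this
      rw [this, smul_zero, zero_mul]
  rcases D.irr _ (hσ v l) _ D.h_mem hprod with h | h
  · exact hg₀ (congrFun h g₀)
  · exact D.h_one (congrFun h 1)

/-- The character of the `j`-th level below `μ`. -/
def lev (μ : T → k) (j : ℕ) : T → k := fun t => μ t * (((D.α⁻¹) t : kˣ) : k) ^ j

theorem lev_c {μ : T → k} {m : ℤ} (hm : ∀ s, μ (D.c s) = (s : k) ^ m) (j : ℕ) (s : kˣ) :
    lev D μ j (D.c s) = (s : k) ^ (m - j) := by
  rw [lev, hm, MonoidHom.inv_apply, D.α_c, Units.val_inv_eq_inv_val, inv_pow, zpow_sub₀ s.ne_zero, zpow_natCast,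
    div_eq_mul_inv]

theorem indep [IsAlgClosed k] {μ : T → k} {m : ℤ} (hm : ∀ s, μ (D.c s) = (s : k) ^ m) {N : ℕ} (f : ℕ → V)
    (hf : ∀ j < N, f j ∈ eig D σ (lev D μ j)) (h : ∑ j ∈ range N, f j = 0) {j : ℕ} (hj : j < N) : f j = 0 :=
  eq_zero_of_zpow_sum (k := k) (fun j : ℕ => m - (j : ℤ))
    (fun a _ b _ hab => by simp only at hab; omega) f (fun s => by
      have := congrArg (σ (D.iT (D.c s))) h
      rw [map_sum, map_zero] at this
      refine Eq.trans (Finset.sum_congr rfl fun i hi => ?_) this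
      rw [hf i (mem_range.1 hi) (D.c s), lev_c D hm]) (mem_range.2 hj)

/-- A weight vector lies in one level. -/
theorem weight_mem [IsAlgClosed k] {μ : T → k} {m : ℤ} (hm : ∀ s, μ (D.c s) = (s : k) ^ m) {N : ℕ}
    (htop : ∀ y : V, y ∈ ⨆ j ∈ range N, eig D σ (lev D μ j)) {y : V} (hy0 : y ≠ 0) {a : ℤ}
    (hy : ∀ s : kˣ, σ (D.iT (D.c s)) y = (s : k) ^ a • y) :
    ∃ j < N, a = m - j ∧ y ∈ eig D σ (lev D μ j) := by
  obtain ⟨f, hf⟩ := (Submodule.mem_iSup_finset_iff_exists_sum _ _).1 (htop y)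
  have hkey : ∀ (s : kˣ), ∀ j < N, ((s : k) ^ (m - j) - (s : k) ^ a) • (f j : V) = 0 := fun s j hj => by
    refine indep D σ hm (fun j => ((s : k) ^ (m - j) - (s : k) ^ a) • (f j : V))
      (fun j _ => Submodule.smul_mem _ _ (f j).2) ?_ hj
    simp only [sub_smul, Finset.sum_sub_distrib, ← Finset.smul_sum, hf, ← hy s]
    rw [sub_eq_zero]
    conv_rhs => rw [← hf, map_sum]
    exact Finset.sum_congr rfl fun j _ => by rw [(f j).2 (D.c s), lev_c D hm]
  by_cases hex : ∃ j < N, a = m - j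
  · obtain ⟨j₀, hj₀, ha⟩ := hex
    refine ⟨j₀, hj₀, ha, ?_⟩
    rw [← hf, Finset.sum_eq_single_of_mem j₀ (mem_range.2 hj₀)]
    · exact (f j₀).2
    intro j hj hjne
    obtain ⟨s, hs⟩ := exists_unit_ne_one (k := k) (d := m - j - a) (by omega)
    refine (smul_eq_zero.1 (hkey s j (mem_range.1 hj))).resolve_left fun h => hs (Units.ext ?_)
    rw [Units.val_zpow_eq_zpow_val, zpow_sub₀ s.ne_zero, sub_eq_zero.1 h, div_self (zpow_ne_zero _ s.ne_zero),
      Units.val_one]
  · push Not at hex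
    refine absurd ?_ hy0
    rw [← hf]
    refine Finset.sum_eq_zero fun j hj => ?_
    obtain ⟨s, hs⟩ := exists_unit_ne_one (k := k) (d := m - j - a) (by have := hex j (mem_range.1 hj); omega)
    refine (smul_eq_zero.1 (hkey s j (mem_range.1 hj))).resolve_left fun h => hs (Units.ext ?_)
    rw [Units.val_zpow_eq_zpow_val, zpow_sub₀ s.ne_zero, sub_eq_zero.1 h, div_self (zpow_ne_zero _ s.ne_zero),
      Units.val_one]

/-- A highest weight vector with its orbit decomposition. -/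
structure Frame where
  μ : T → k
  v : V
  m : ℕ
  ψ : ℕ → k → k → V
  v_ne : v ≠ 0
  v_eig : v ∈ eig D σ μ
  fixed : ∀ p q, σ (D.up p q) v = v
  μ_ne : ∀ t, μ t ≠ 0
  hm : ∀ s, μ (D.c s) = (s : k) ^ (m : ℤ)
  sum : ∀ p q, σ (D.um p q) v = ∑ j ∈ range (2 * m + 1), ψ j p q
  psi_zero : ∀ p q, ψ 0 p q = v
  psi_eig : ∀ j p q, ψ j p q ∈ eig D σ (lev D μ j)
  psi_poly : ∀ j (l : Module.Dual k V), ∃ P : MvPolynomial (Fin 2) k,
    IsWeightedHomogeneous wt P j ∧ ∀ p q, l (ψ j p q) = eval (pt p q) P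
  top : ∀ y : V, y ∈ ⨆ j ∈ range (2 * m + 1), eig D σ (lev D μ j)
  span : Submodule.span k (Set.range fun a : k × k => σ (D.um a.1 a.2) v) = ⊤
  line : ∀ y ∈ eig D σ (lev D μ 0), ∃ r : k, y = r • v
  bottom : ∀ p q p' q', ψ (2 * m) p' q' ≠ 0 → ∃ r : k, ψ (2 * m) p q = r • ψ (2 * m) p' q'
  low : ∃ y : V, y ≠ 0 ∧ ∀ s : kˣ, σ (D.iT (D.c s)) y = (s : k) ^ (-(m : ℤ)) • y

theorem n_weight {y : V} {a : ℤ} (hy : ∀ s : kˣ, σ (D.iT (D.c s)) y = (s : k) ^ a • y) (s : kˣ) :
    σ (D.iT (D.c s)) (σ D.n y) = (s : k) ^ (-a) • σ D.n y := by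
  have h := D.n_c s⁻¹
  rw [inv_inv] at h
  rw [← Module.End.mul_apply, ← map_mul, ← h, map_mul, Module.End.mul_apply, hy, map_smul, Units.val_inv_eq_inv_val,
    inv_zpow, zpow_neg]

theorem exists_frame [IsAlgClosed k] [FiniteDimensional k V] [Nontrivial V] (hs : Simple σ) (hσ : Reg D σ) :
    Nonempty (Frame D σ) := by
  classical
  obtain ⟨μ, v, hv0, hv, hfix⟩ := exists_top D σ hσ
  obtain ⟨h1, hμ0, m, hm⟩ := exists_weight D σ hσ hv hv0
  obtain ⟨N, ψ, hN, hsum, hψ0, hscale, heig, hpoly⟩ :=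
    exists_expand D σ D.um D.α⁻¹ D.um_zero D.conj_um D.poly_um hσ hv
  have hspan := span_um_eq_top D σ hs hσ hv0 hv hfix
  obtain ⟨J, hJ, hmax⟩ := Finset.exists_max_image ((range N).filter fun j => ∃ p q, ψ j p q ≠ 0) id
    ⟨0, Finset.mem_filter.2 ⟨mem_range.2 hN, 0, 0, by rw [hψ0]; exact hv0⟩⟩
  obtain ⟨hJN, p₁, q₁, hne⟩ := Finset.mem_filter.1 hJ
  have hJN' := mem_range.1 hJN
  have hsumJ : ∀ p q, σ (D.um p q) v = ∑ j ∈ range (J + 1), ψ j p q := fun p q => by
    rw [hsum]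
    refine (Finset.sum_subset (range_mono (by omega)) fun j hj hj' => ?_).symm
    rw [mem_range, not_lt] at hj'
    by_contra h0
    have := hmax j (Finset.mem_filter.2 ⟨hj, p, q, h0⟩)
    simp only [id] at this
    omega
  have htop : ∀ y : V, y ∈ ⨆ j ∈ range (J + 1), eig D σ (lev D μ j) := fun y => by
    have : (⊤ : Submodule k V) ≤ ⨆ j ∈ range (J + 1), eig D σ (lev D μ j) := by
      rw [← hspan]
      refine Submodule.span_le.2 fun _ ⟨a, ha⟩ => ?_
      subst ha
      simp only [SetLike.mem_coe, hsumJ]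
      exact Submodule.sum_mem _ fun j hj =>
        Submodule.mem_iSup_of_mem j (Submodule.mem_iSup_of_mem hj (heig j a.1 a.2))
    exact this Submodule.mem_top
  have hline : ∀ y ∈ eig D σ (lev D μ 0), ∃ r : k, y = r • v := fun y hy => by
    have hy' : y ∈ Submodule.span k (Set.range fun a : k × k => σ (D.um a.1 a.2) v) := hspan ▸ Submodule.mem_top
    obtain ⟨c, hc⟩ := Finsupp.mem_span_range_iff_exists_finsupp.1 hy'
    let f : ℕ → V := fun j => ∑ a ∈ c.support, c a • ψ j a.1 a.2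
    have hyf : y = ∑ j ∈ range (J + 1), f j := by
      rw [← hc, Finsupp.sum, Finset.sum_comm]
      exact Finset.sum_congr rfl fun a _ => by rw [hsumJ, Finset.smul_sum]
    have h0 := indep D σ hm (fun j => if j = 0 then f j - y else f j) (fun j _ => ?_) ?_ (j := 0) (Nat.succ_pos J)
    · refine ⟨∑ a ∈ c.support, c a, ?_⟩
      simp only [if_true, sub_eq_zero, f, hψ0] at h0
      rw [← h0, Finset.sum_smul]
    · have hfj : f j ∈ eig D σ (lev D μ j) := Submodule.sum_mem _ fun a _ => Submodule.smul_mem _ _ (heig j a.1 a.2)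
      show (if j = 0 then f j - y else f j) ∈ _
      split
      · subst j; exact Submodule.sub_mem _ hfj hy
      · exact hfj
    · rw [Finset.sum_range_succ'] at hyf ⊢
      simp only [if_true, Nat.succ_ne_zero, if_false]
      rw [hyf]; abel
  -- symmetry
  have hvw : ∀ s : kˣ, σ (D.iT (D.c s)) v = (s : k) ^ m • v := fun s => by rw [hv, hm]
  have hinj : Function.Injective (σ D.n) := Function.LeftInverse.injective (g := σ D.n⁻¹) fun y => by
    rw [← Module.End.mul_apply, ← map_mul, inv_mul_cancel, map_one, Module.End.one_apply]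
  have hnv0 : σ D.n v ≠ 0 := fun h => hv0 (hinj (h.trans (map_zero _).symm))
  have hnw := n_weight D σ hvw
  obtain ⟨j₁, hj₁, e₁, -⟩ := weight_mem D σ hm htop hnv0 hnw
  have hψw : ∀ p q (s : kˣ), σ (D.iT (D.c s)) (ψ J p q) = (s : k) ^ (m - J) • ψ J p q := fun p q s =>
    (heig J p q (D.c s)).trans (congrArg (· • ψ J p q) (lev_c D hm J s))
  have hψ1 : σ D.n (ψ J p₁ q₁) ≠ 0 := fun h => hne (hinj (h.trans (map_zero _).symm))
  obtain ⟨j₂, hj₂, e₂, -⟩ := weight_mem D σ hm htop hψ1 (n_weight D σ (hψw p₁ q₁))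
  obtain ⟨mn, rfl⟩ : ∃ mn : ℕ, m = (mn : ℤ) := ⟨m.toNat, by omega⟩
  have hJm : J = 2 * mn := by omega
  subst hJm
  refine ⟨⟨μ, v, mn, ψ, hv0, hv, hfix, hμ0, hm, hsumJ, hψ0, heig, hpoly, htop, hspan, hline,
    fun p q p' q' h' => ?_, σ D.n v, hnv0, hnw⟩⟩
  by_cases h0 : ψ (2 * mn) p q = 0
  · exact ⟨0, by rw [h0, zero_smul]⟩
  have hz : ∀ p q, ψ (2 * mn) p q ≠ 0 → ∃ r : k, σ D.n (ψ (2 * mn) p q) = r • v := fun p q h => by
    obtain ⟨j, hj, ej, hmem⟩ := weight_mem D σ hm htop (fun e => h (hinj (e.trans (map_zero _).symm)))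
      (n_weight D σ (hψw p q))
    obtain rfl : j = 0 := by omega
    exact hline _ hmem
  obtain ⟨r, hr⟩ := hz p q h0
  obtain ⟨r', hr'⟩ := hz p' q' h'
  have hr'0 : r' ≠ 0 := fun e => h' (hinj (by rw [hr', e, zero_smul, map_zero]))
  exact ⟨r / r', hinj (by rw [map_smul, hr, hr', smul_smul, div_mul_cancel₀ _ hr'0])⟩

variable {D σ}

theorem Frame.eq_zero_of_sep [IsAlgClosed k] (F : Frame D σ) {y : V}
    (h : ∀ j < 2 * F.m + 1, ∀ l : Module.Dual k V,
      (∀ i < 2 * F.m + 1, i ≠ j → ∀ z ∈ eig D σ (lev D F.μ i), l z = 0) → l y = 0) : y = 0 := by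
  classical
  obtain ⟨f, hf⟩ := (Submodule.mem_iSup_finset_iff_exists_sum _ _).1 (F.top y)
  rw [← hf]
  refine Finset.sum_eq_zero fun j hj => ?_
  by_contra hne
  let W : Submodule k V := ⨆ i ∈ (range (2 * F.m + 1)).erase j, eig D σ (lev D F.μ i)
  have hnot : (f j : V) ∉ W := fun hW => by
    obtain ⟨g, hg⟩ := (Submodule.mem_iSup_finset_iff_exists_sum _ _).1 hW
    have := indep D σ F.hm (fun i => if i = j then (f j : V) else -(g i : V)) (fun i _ => ?_) ?_ (mem_range.1 hj)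
    · exact hne (by simpa using this)
    · show (if i = j then (f j : V) else -(g i : V)) ∈ _
      split
      · subst i; exact (f j).2
      · exact Submodule.neg_mem _ (g i).2
    · rw [← Finset.add_sum_erase _ _ hj, if_pos rfl,
        Finset.sum_congr rfl fun i hi => if_neg (Finset.ne_of_mem_erase hi), Finset.sum_neg_distrib, hg,
        add_neg_cancel]
  obtain ⟨l, hl, hlW⟩ := Submodule.exists_dual_map_eq_bot_of_notMem hnot inferInstance
  have hlz : ∀ i < 2 * F.m + 1, i ≠ j → ∀ z ∈ eig D σ (lev D F.μ i), l z = 0 := fun i hi hij z hz => by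
    have : l z ∈ Submodule.map l W := Submodule.mem_map_of_mem
      (Submodule.mem_iSup_of_mem i (Submodule.mem_iSup_of_mem (Finset.mem_erase.2 ⟨hij, mem_range.2 hi⟩) hz))
    rwa [hlW, Submodule.mem_bot] at this
  refine hl ?_
  have := h j (mem_range.1 hj) l hlz
  rwa [← hf, map_sum, Finset.sum_eq_single_of_mem j hj fun i hi hij => hlz i (mem_range.1 hi) hij _ (f i).2] at this

theorem Frame.exists_sep [IsAlgClosed k] (F : Frame D σ) {j : ℕ} (hj : j < 2 * F.m + 1) {y : V}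
    (hy : y ∈ eig D σ (lev D F.μ j)) (hy0 : y ≠ 0) :
    ∃ l : Module.Dual k V, (∀ i < 2 * F.m + 1, i ≠ j → ∀ z ∈ eig D σ (lev D F.μ i), l z = 0) ∧ l y = 1 := by
  by_contra hne
  push Not at hne
  refine hy0 (F.eq_zero_of_sep fun i hi l hl => ?_)
  by_cases hij : i = j
  · subst i
    by_contra hly
    exact hne ((l y)⁻¹ • l) (fun i hi hij z hz => by simp [hl i hi hij z hz]) (by simp [hly])
  · exact hl j hj (Ne.symm hij) y hy

theorem Frame.sep_sum (F : Frame D σ) {j : ℕ} (hj : j < 2 * F.m + 1) {l : Module.Dual k V}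
    (hl : ∀ i < 2 * F.m + 1, i ≠ j → ∀ z ∈ eig D σ (lev D F.μ i), l z = 0) (p q : k) :
    l (σ (D.um p q) F.v) = l (F.ψ j p q) := by
  rw [F.sum, map_sum, Finset.sum_eq_single_of_mem j (mem_range.2 hj) fun i hi hij =>
    hl i (mem_range.1 hi) hij _ (F.psi_eig i p q)]

/-- Eigenvalues of a triangular element. -/
theorem Frame.eigenvalue [IsAlgClosed k] [FiniteDimensional k V] (F : Frame D σ) (hσ : Reg D σ) (t : T) (p q : k)
    {y : V} (hy0 : y ≠ 0) {a : k} (hy : σ (D.iT t * D.up p q) y = a • y) :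
    ∃ j < 2 * F.m + 1, a = lev D F.μ j t := by
  classical
  obtain ⟨f, hf⟩ := (Submodule.mem_iSup_finset_iff_exists_sum _ _).1 (F.top y)
  obtain ⟨J, hJ, hmax⟩ := Finset.exists_max_image ((range (2 * F.m + 1)).filter fun j => (f j : V) ≠ 0) id (by
    by_contra h
    refine hy0 (hf ▸ Finset.sum_eq_zero fun j hj => ?_)
    by_contra hne
    exact h ⟨j, Finset.mem_filter.2 ⟨hj, hne⟩⟩)
  obtain ⟨hJN, hne⟩ := Finset.mem_filter.1 hJ
  have hJN' := mem_range.1 hJN
  obtain ⟨l, hl, hl1⟩ := F.exists_sep hJN' (f J).2 hne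
  refine ⟨J, hJN', ?_⟩
  have hterm : ∀ j ∈ range (2 * F.m + 1), l (σ (D.iT t * D.up p q) (f j)) = if j = J then lev D F.μ J t else 0 := by
    intro j hj
    by_cases hj0 : (f j : V) = 0
    · rw [hj0, map_zero, map_zero, if_neg]
      rintro rfl
      exact hne hj0
    have hjJ : j ≤ J := hmax j (Finset.mem_filter.2 ⟨hj, hj0⟩)
    obtain ⟨N, χ, hN, hsum, hχ0, -, heig, -⟩ :=
      exists_expand D σ D.up D.α D.up_zero D.conj_up D.poly_up hσ (f j).2
    rw [map_mul, Module.End.mul_apply, hsum, map_sum, map_sum,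
      Finset.sum_eq_single_of_mem 0 (mem_range.2 hN), hχ0, (f j).2 t, map_smul, smul_eq_mul]
    · split
      · next h => subst h; rw [hl1, mul_one]
      · next h => rw [hl j (mem_range.1 hj) h _ (f j).2, mul_zero]
    intro i _ hi0
    rw [heig i p q t, map_smul]
    by_cases hz : χ i p q = 0
    · rw [hz, map_zero, smul_zero]
    have hw : ∀ s : kˣ, σ (D.iT (D.c s)) (χ i p q) = (s : k) ^ ((F.m : ℤ) - j + i) • χ i p q := fun s => by
      rw [heig i p q (D.c s)]
      simp only [lev_c D F.hm, D.α_c]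
      rw [zpow_add₀ s.ne_zero, zpow_natCast]
    obtain ⟨i', hi', e, hmem⟩ := weight_mem D σ F.hm F.top hz hw
    rw [hl i' hi' (by omega) _ hmem, smul_zero]
  have := congrArg l hy
  rw [map_smul, smul_eq_mul, ← hf, map_sum, map_sum, map_sum, Finset.sum_congr rfl hterm,
    Finset.sum_ite_eq' (range (2 * F.m + 1)) J, if_pos hJN,
    Finset.sum_eq_single_of_mem J hJN fun j hj hjJ => hl j (mem_range.1 hj) hjJ _ (f j).2, hl1, mul_one] at this
  exact this.symm

end Groth.Agent.H82.Reduced
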