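import Groth.Agent.H82.Reduced.Apply
import Mathlib.LinearAlgebra.RootSystem.Reduced

/-!
# The root datum of a split reductive group over a nonempty base is reduced
-/

set_option autoImplicit false
set_option linter.style.haveILetI false
universe u

open CategoryTheory MonoidalCategory CartesianMonoidalCategory AlgebraicGeometry

namespace Groth.Agent.H82.Reduced

/-- Twice a root is never a root. -/
theorem root_ne_two_smul {S : Scheme.{u}} [Nonempty S] {G : Over S} [GrpObj G] (D : Red.SplitRed G)
    (a b : D.idx) : D.P.root b ≠ (2 : ℤ) • D.P.root a := fun hab => by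
  haveI : IsAddTorsionFree D.M := .of_isTorsionFree ℤ D.M
  obtain ⟨lam, hla, h01, hzero⟩ := exists_singular D.P hab
  let s : S := Classical.arbitrary S
  obtain ⟨Z, _, j, hj, hjm, hjc, hred⟩ := exists_Z_red h01 s
  exact false_of_reductive (y := Red.geomPt s) hab hla hzero j hjc hred

/-- The root datum of a split reductive group over a nonempty base is reduced. -/
theorem isReduced {S : Scheme.{u}} [Nonempty S] {G : Over S} [GrpObj G] (D : Red.SplitRed G) :
    D.P.IsReduced := by
  haveI : IsAddTorsionFree D.M := .of_isTorsionFree ℤ D.M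
  refine ⟨fun i j h => ?_⟩
  have h4 : D.P.pairing i j * D.P.pairing j i = 4 := D.P.coxeterWeight_eq_four_iff_not_linearIndependent.2 h
  have e := D.P.pairing_smul_root_eq_of_not_linearIndependent h
  have hdvd : D.P.pairing j i ∣ 4 := ⟨D.P.pairing i j, by rw [mul_comm]; exact h4.symm⟩
  have hle := Int.le_of_dvd (by norm_num) hdvd
  have hle' := Int.le_of_dvd (by norm_num) (Int.neg_dvd.2 hdvd)
  obtain ⟨q, hq⟩ : ∃ q, q = D.P.pairing j i := ⟨_, rfl⟩
  rw [← hq] at e hdvd hle hle'
  have inj : ∀ {x y : D.M}, (2 : ℤ) • x = (2 : ℤ) • y → x = y := fun hxy =>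
    smul_right_injective D.M (two_ne_zero (α := ℤ)) hxy
  have hneg : ∀ c, D.P.root (D.P.reflectionPerm c c) = -D.P.root c := root_refl_self D.P
  have : q = 1 ∨ q = -1 ∨ q = 2 ∨ q = -2 ∨ q = 4 ∨ q = -4 := by
    rcases hdvd with ⟨r, hr⟩
    have : -4 ≤ q := by omega
    interval_cases q <;> omega
  rcases this with rfl | rfl | rfl | rfl | rfl | rfl
  · exact absurd (by rw [← e, one_smul]) (root_ne_two_smul D j i)
  · exact absurd (by rw [← e, hneg, neg_one_smul]) (root_ne_two_smul D j (D.P.reflectionPerm i i))
  · exact Or.inl (inj e)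
  · exact Or.inr (inj (by rw [smul_neg, ← e, ← neg_smul]; rfl))
  · exact absurd (inj (by rw [← e, smul_smul]; rfl)) (root_ne_two_smul D i j)
  · exact absurd (inj (by rw [hneg, smul_neg, ← e, smul_smul, ← neg_smul]; rfl))
      (root_ne_two_smul D i (D.P.reflectionPerm j j))

end Groth.Agent.H82.Reduced
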