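import Mathlib.RingTheory.MvPolynomial.WeightedHomogeneous
import Mathlib.RingTheory.Nullstellensatz
import Mathlib.RingTheory.Ideal.GoingUp
import Mathlib.RingTheory.Polynomial.Basic
import Mathlib.FieldTheory.IsAlgClosed.Basic
import Mathlib.LinearAlgebra.Dual.Lemmas

/-!
# Weighted homogeneous polynomials in two variables of weights one and two
-/

set_option autoImplicit false
set_option linter.style.haveILetI false

universe u v w

open Finset MvPolynomial

namespace Groth.Agent.H82.Reduced

variable {k : Type u} [Field k]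

/-- The weights of the two coordinates. -/
def wt : Fin 2 → ℕ := ![1, 2]

/-- The point with coordinates `p`, `q`. -/
def pt (p q : k) : Fin 2 → k := ![p, q]

theorem weight_wt (d : Fin 2 →₀ ℕ) : Finsupp.weight wt d = d 0 + d 1 * 2 := by
  rw [Finsupp.weight_apply, Finsupp.sum_fintype _ _ (by simp)]
  simp [wt]

theorem eval_pt_scale {P : MvPolynomial (Fin 2) k} {j : ℕ} (h : IsWeightedHomogeneous wt P j) (r p q : k) :
    eval (pt (r * p) (r ^ 2 * q)) P = r ^ j * eval (pt p q) P := by
  rw [eval_eq', eval_eq', Finset.mul_sum]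
  refine Finset.sum_congr rfl fun d hd => ?_
  have hw := h (mem_support_iff.1 hd)
  rw [weight_wt] at hw
  simp only [Fin.prod_univ_two, pt, Matrix.cons_val_zero, Matrix.cons_val_one]
  rw [mul_pow, mul_pow, ← pow_mul, ← hw]
  ring

theorem eval_zero_of_pos {P : MvPolynomial (Fin 2) k} {j : ℕ} (h : IsWeightedHomogeneous wt P j) (hj : j ≠ 0) :
    eval (pt 0 0) P = 0 := by
  simpa [zero_pow hj] using eval_pt_scale h 0 0 0

/-- Finitely many values where a nonzero polynomial vanishes can be avoided. -/
theorem exists_eval_ne [IsAlgClosed k] {P : Polynomial k} (hP : P ≠ 0) : ∃ r : k, r ≠ 0 ∧ P.eval r ≠ 0 := by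
  classical
  obtain ⟨r, hr⟩ := (Finset.finite_toSet (P.roots.toFinset ∪ {0})).exists_notMem
  simp only [Finset.mem_coe, Finset.mem_union, Multiset.mem_toFinset, Finset.mem_singleton, not_or] at hr
  exact ⟨r, hr.2, fun h => hr.1 ((Polynomial.mem_roots hP).2 h)⟩

theorem poly_eq_zero [IsAlgClosed k] {P : Polynomial k} (h : ∀ r : k, r ≠ 0 → P.eval r = 0) : P = 0 := by
  by_contra hP
  obtain ⟨r, hr, hr'⟩ := exists_eval_ne hP
  exact hr' (h r hr)

/-- A vector valued polynomial vanishing on the units has zero coefficients. -/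
theorem eq_zero_of_pow_sum [IsAlgClosed k] {V : Type w} [AddCommGroup V] [Module k V] {N : ℕ} (y : ℕ → V)
    (h : ∀ r : k, r ≠ 0 → ∑ j ∈ range N, r ^ j • y j = 0) {j : ℕ} (hj : j < N) : y j = 0 := by
  refine (Module.forall_dual_apply_eq_zero_iff k _).1 fun l => ?_
  have h0 : (∑ a ∈ range N, Polynomial.monomial a (l (y a)) : Polynomial k) = 0 :=
    poly_eq_zero fun r hr => by
      rw [Polynomial.eval_finsetSum]
      have := congrArg l (h r hr)
      rw [map_sum, map_zero] at this
      simpa [Polynomial.eval_monomial, mul_comm] using this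
  have h1 := congrArg (fun P => Polynomial.coeff P j) h0
  simpa [Polynomial.finsetSum_coeff, Polynomial.coeff_monomial, hj] using h1

theorem exists_zero [IsAlgClosed k] {P : MvPolynomial (Fin 2) k} {j : ℕ} (h : IsWeightedHomogeneous wt P j)
    (hj : j ≠ 0) : ∃ p q : k, (p ≠ 0 ∨ q ≠ 0) ∧ eval (pt p q) P = 0 := by
  let Q : Polynomial k := aeval ![Polynomial.X, 1] P
  have hQ : ∀ p : k, Q.eval p = eval (pt p 1) P := fun p => by
    simp only [Q]
    rw [← Polynomial.coe_evalRingHom, map_aeval, eval_eq', coe_eval₂Hom, eval₂_eq']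
    refine Finset.sum_congr rfl fun d _ => ?_
    simp [pt, Fin.prod_univ_two]
  by_cases hc : Q.degree = 0
  · refine ⟨1, 0, Or.inl one_ne_zero, ?_⟩
    obtain ⟨c, hc'⟩ : ∃ c, Q = Polynomial.C c := ⟨_, Polynomial.eq_C_of_degree_eq_zero hc⟩
    let R : Polynomial k := aeval ![(1 : Polynomial k), Polynomial.X ^ 2] P - Polynomial.C c * Polynomial.X ^ j
    have hR : ∀ r : k, R.eval r = eval (pt 1 (r ^ 2)) P - c * r ^ j := fun r => by
      simp only [R, Polynomial.eval_sub, Polynomial.eval_mul, Polynomial.eval_C, Polynomial.eval_pow,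
        Polynomial.eval_X]
      rw [← Polynomial.coe_evalRingHom, map_aeval, eval_eq', coe_eval₂Hom, eval₂_eq']
      congr 1
      refine Finset.sum_congr rfl fun d _ => ?_
      simp [pt, Fin.prod_univ_two]
    have hR0 : R = 0 := poly_eq_zero fun r hr => by
      rw [hR, show pt (1 : k) (r ^ 2) = pt (r * r⁻¹) (r ^ 2 * 1) by rw [mul_inv_cancel₀ hr, mul_one],
        eval_pt_scale h, ← hQ, hc', Polynomial.eval_C, mul_comm, sub_self]
    have := hR 0
    rw [hR0, zero_pow hj] at this
    simpa using this.symm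
  · obtain ⟨p, hp⟩ := IsAlgClosed.exists_root Q hc
    exact ⟨p, 1, Or.inr one_ne_zero, (hQ p).symm.trans hp⟩

/-- The image of a weighted homogeneous map of positive degrees whose only zero is the origin is
cut out by polynomials. -/
theorem exists_preimage [IsAlgClosed k] {κ : Type v} (G : κ → MvPolynomial (Fin 2) k) (dG : κ → ℕ)
    (hG : ∀ l, IsWeightedHomogeneous wt (G l) (dG l)) (hd : ∀ l, 0 < dG l)
    (h0 : ∀ p q : k, (∀ l, eval (pt p q) (G l) = 0) → p = 0 ∧ q = 0) (y : κ → k)
    (hy : ∀ F : MvPolynomial κ k, (∀ p q, eval (fun l => eval (pt p q) (G l)) F = 0) → eval y F = 0) :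
    ∃ p q, ∀ l, eval (pt p q) (G l) = y l := by
  classical
  let φ : MvPolynomial κ k →ₐ[k] MvPolynomial (Fin 2) k := aeval G
  letI := φ.toRingHom.toAlgebra
  have hev : ∀ (F : MvPolynomial κ k) (p q : k), eval (pt p q) (φ F) = eval (fun l => eval (pt p q) (G l)) F :=
    fun F p q => by
      induction F using MvPolynomial.induction_on with
      | C a => simp [φ]
      | add a b ha hb => simp [map_add, ha, hb]
      | mul_X a i ha => simp [map_mul, ha, φ]
  obtain ⟨N, hN⟩ : ∃ N : Fin 2 → ℕ, ∀ i, (X i : MvPolynomial (Fin 2) k) ^ N i ∈ Ideal.span (Set.range G) := by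
    have h : ∀ i, ∃ n : ℕ, (X i : MvPolynomial (Fin 2) k) ^ n ∈ Ideal.span (Set.range G) := fun i => by
      have : (X i : MvPolynomial (Fin 2) k) ∈ (Ideal.span (Set.range G)).radical := by
        rw [← vanishingIdeal_zeroLocus_eq_radical (K := k)]
        intro x hx
        have hx' : x = pt (x 0) (x 1) := funext fun j => by fin_cases j <;> rfl
        obtain ⟨e0, e1⟩ := h0 (x 0) (x 1) fun l => by
          rw [← hx']
          simpa using hx _ (Ideal.subset_span ⟨l, rfl⟩)
        fin_cases i <;> simpa
      exact Ideal.mem_radical_iff.1 this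
    exact Classical.skolem.1 h
  let box : Finset (Fin 2 →₀ ℕ) :=
    (Finset.range (N 0) ×ˢ Finset.range (N 1)).image fun d => Finsupp.equivFunOnFinite.symm ![d.1, d.2]
  let M : Submodule (MvPolynomial κ k) (MvPolynomial (Fin 2) k) :=
    Submodule.span _ ((fun d => monomial d (1 : k)) '' (box : Set (Fin 2 →₀ ℕ)))
  have hsmul : ∀ (F : MvPolynomial κ k) (x : MvPolynomial (Fin 2) k), F • x = φ F * x := fun F x => rfl
  have hC : ∀ (r : k) {x : MvPolynomial (Fin 2) k}, x ∈ M → C r * x ∈ M := fun r x hx => by
    have := M.smul_mem (C r) hx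
    rwa [hsmul, aeval_C, algebraMap_eq] at this
  have hmon : ∀ d : Fin 2 →₀ ℕ, monomial d (1 : k) ∈ M := by
    intro d
    induction hn : Finsupp.weight wt d using Nat.strong_induction_on generalizing d with
    | _ n ih =>
      by_cases hd' : d 0 < N 0 ∧ d 1 < N 1
      · refine Submodule.subset_span ⟨d, Finset.mem_image.2 ⟨(d 0, d 1), by simp [hd'], ?_⟩, rfl⟩
        ext j; fin_cases j <;> simp
      obtain ⟨i, hi⟩ : ∃ i, N i ≤ d i := by
        rcases not_and_or.1 hd' with h | h
        · exact ⟨0, not_lt.1 h⟩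
        · exact ⟨1, not_lt.1 h⟩
      let e : Fin 2 →₀ ℕ := d - Finsupp.single i (N i)
      have hde : d = Finsupp.single i (N i) + e := by
        rw [add_comm, tsub_add_cancel_of_le]
        exact Finsupp.single_le_iff.2 hi
      obtain ⟨c, hc⟩ := Finsupp.mem_span_range_iff_exists_finsupp.1 (hN i)
      have he : monomial d (1 : k) = ∑ l ∈ c.support, weightedHomogeneousComponent wt n (c l * G l * monomial e 1) := by
        have h1 : monomial d (1 : k) = ∑ l ∈ c.support, c l * G l * monomial e 1 := by
          rw [← Finset.sum_mul, show ∑ l ∈ c.support, c l * G l = X i ^ N i from hc, X_pow_eq_monomial,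
            monomial_mul, mul_one, ← hde]
        rw [← map_sum, ← h1, (isWeightedHomogeneous_monomial wt d 1 hn).weightedHomogeneousComponent_same]
      rw [he]
      refine Submodule.sum_mem _ fun l _ => ?_
      have hlin : c l = ∑ d' ∈ (c l).support, monomial d' (coeff d' (c l)) := (as_sum (c l))
      rw [hlin, Finset.sum_mul, Finset.sum_mul, map_sum]
      refine Submodule.sum_mem _ fun d' _ => ?_
      have hh : IsWeightedHomogeneous wt (monomial d' (coeff d' (c l)) * G l * monomial e 1)
          (Finsupp.weight wt d' + dG l + Finsupp.weight wt e) :=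
        ((isWeightedHomogeneous_monomial wt d' _ rfl).mul (hG l)).mul (isWeightedHomogeneous_monomial wt e 1 rfl)
      by_cases hn' : Finsupp.weight wt d' + dG l + Finsupp.weight wt e = n
      · rw [hn'] at hh
        rw [hh.weightedHomogeneousComponent_same]
        have hlt : Finsupp.weight wt (d' + e) < n := by
          rw [map_add]; have := hd l; omega
        have h2 := hC (coeff d' (c l)) (M.smul_mem (X l) (ih _ hlt (d' + e) rfl))
        rw [hsmul, aeval_X] at h2
        convert h2 using 1
        rw [show monomial (d' + e) (1 : k) = monomial d' 1 * monomial e 1 by rw [monomial_mul, mul_one],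
          show monomial d' (coeff d' (c l)) = C (coeff d' (c l)) * monomial d' 1 by rw [C_mul_monomial, mul_one]]
        ring
      · rw [hh.weightedHomogeneousComponent_ne n (Ne.symm hn')]
        exact M.zero_mem
  haveI : Module.Finite (MvPolynomial κ k) (MvPolynomial (Fin 2) k) := by
    refine ⟨⟨box.image fun d => monomial d 1, eq_top_iff.2 fun x _ => ?_⟩⟩
    rw [Finset.coe_image]
    show x ∈ M
    rw [show x = ∑ d ∈ x.support, monomial d (coeff d x) from as_sum x]
    refine Submodule.sum_mem _ fun d _ => ?_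
    rw [← mul_one (coeff d x), ← C_mul_monomial]
    exact hC _ (hmon d)
  let m : Ideal (MvPolynomial κ k) := RingHom.ker (eval y)
  haveI : m.IsMaximal := RingHom.ker_isMaximal_of_surjective (eval y) fun c => ⟨C c, by simp⟩
  have hker : RingHom.ker (algebraMap (MvPolynomial κ k) (MvPolynomial (Fin 2) k)) ≤ m := fun F hF =>
    hy F fun p q => by
      rw [← hev, show φ F = 0 from hF, map_zero]
  obtain ⟨Q, hQ, hQm⟩ := Ideal.exists_ideal_over_maximal_of_isIntegral m hker
  obtain ⟨x, hx⟩ := (isMaximal_iff_eq_vanishingIdeal_singleton (K := k)).1 hQ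
  refine ⟨x 0, x 1, fun l => ?_⟩
  have hx' : pt (x 0) (x 1) = x := funext fun j => by fin_cases j <;> rfl
  have h1 : X l - C (y l) ∈ m := by simp [m]
  rw [← hQm, Ideal.mem_comap, hx, mem_vanishingIdeal_singleton_iff] at h1
  have h2 : φ (X l - C (y l)) = G l - C (y l) := by simp [φ]
  rw [show algebraMap (MvPolynomial κ k) (MvPolynomial (Fin 2) k) (X l - C (y l)) = φ (X l - C (y l)) from rfl, h2,
    map_sub, aeval_C] at h1
  rw [hx']
  simpa [sub_eq_zero] using h1

end Groth.Agent.H82.Reduced
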