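import Groth.Agent.H82.Contract.Gen

/-!
# Roots proportional to a root whose double is a root, and singular functionals
-/

set_option autoImplicit false
set_option linter.style.haveILetI false
set_option linter.unusedSectionVars false
universe u

open CategoryTheory MonoidalCategory CartesianMonoidalCategory MonObj GrpObj AlgebraicGeometry

namespace Groth.Agent.H82.Reduced

/-- A functional avoiding finitely many nonzero vectors. -/
theorem exists_functional {M : Type} [AddCommGroup M] [Module.Finite ℤ M] [Module.Free ℤ M] {κ : Type*} [Finite κ]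
    (v : κ → M) : ∃ l : M →ₗ[ℤ] ℤ, ∀ a, v a ≠ 0 → l (v a) ≠ 0 := by
  classical
  haveI := Fintype.ofFinite κ
  let B := Module.finBasis ℤ M
  let q : κ → Polynomial ℤ := fun a => ∑ j : Fin (Module.finrank ℤ M), Polynomial.monomial (j : ℕ) (B.repr (v a) j)
  obtain ⟨N, hN⟩ := Infinite.exists_notMem_finset (Finset.univ.biUnion fun a => (q a).roots.toFinset)
  refine ⟨∑ j : Fin (Module.finrank ℤ M), (N ^ (j : ℕ)) • B.coord j, fun a ha h0 => hN ?_⟩
  have hq : q a ≠ 0 := fun h => by
    refine ha (B.ext_elem fun j => ?_)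
    have h2 := congrArg (fun r => Polynomial.coeff r (j : ℕ)) h
    simp only [q, Polynomial.finsetSum_coeff, Polynomial.coeff_monomial, Polynomial.coeff_zero] at h2
    rw [Finset.sum_eq_single j (fun k _ hk => if_neg fun h => hk (Fin.ext h))
      (fun h => absurd (Finset.mem_univ j) h), if_pos rfl] at h2
    simpa using h2
  refine Finset.mem_biUnion.2 ⟨a, Finset.mem_univ a, Multiset.mem_toFinset.2 ((Polynomial.mem_roots hq).2 ?_)⟩
  rw [Polynomial.IsRoot.def, ← h0, Polynomial.eval_finsetSum]
  simp [Polynomial.eval_monomial, _root_.mul_comm]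

variable {idx M N : Type} [AddCommGroup M] [AddCommGroup N] (P : RootPairing idx ℤ M N) [IsAddTorsionFree M]
  {a b : idx}

theorem root_refl_self (a : idx) : P.root (P.reflectionPerm a a) = -P.root a := by
  rw [P.root_reflectionPerm, P.reflection_apply_self]

theorem pairing_double (hab : P.root b = (2 : ℤ) • P.root a) : P.pairing a b = 1 := by
  have h := P.pairing_same b
  rw [← P.root_coroot'_eq_pairing, hab, map_smul, P.root_coroot'_eq_pairing, smul_eq_mul] at h
  omega

/-- The roots proportional to `a` are `±a` and `±2a`. -/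
theorem eq_of_dep (hab : P.root b = (2 : ℤ) • P.root a) {c : idx} {z : ℤ}
    (h : (2 : ℤ) • P.root c = z • P.root a) :
    c = a ∨ c = b ∨ c = P.reflectionPerm a a ∨ c = P.reflectionPerm b b := by
  have h1 : (2 : ℤ) * 2 = z * P.pairing a c := by
    have := congrArg (P.coroot' c) h
    simpa [P.root_coroot'_eq_pairing, P.pairing_same] using this
  have h2 : 2 * P.pairing c b = z := by
    have := congrArg (P.coroot' b) h
    simpa [P.root_coroot'_eq_pairing, pairing_double P hab] using this
  have hz : z ∣ 4 := ⟨P.pairing a c, by linarith⟩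
  have hb : z ≤ 4 := Int.le_of_dvd (by norm_num) hz
  have hb' : -z ≤ 4 := Int.le_of_dvd (by norm_num) (Int.neg_dvd.2 hz)
  have hne : z ≠ 0 := fun e => by rw [e] at h1; omega
  have h2M : ∀ {x y : M}, (2 : ℤ) • x = (2 : ℤ) • y → x = y := fun hxy =>
    smul_right_injective M (two_ne_zero (α := ℤ)) hxy
  obtain ⟨w, rfl⟩ : ∃ w, z = 2 * w := ⟨P.pairing c b, h2.symm⟩
  have hroot : P.root c = w • P.root a := h2M (by rw [h, smul_smul])
  have : w = 1 ∨ w = -1 ∨ w = 2 ∨ w = -2 := by omega
  rcases this with rfl | rfl | rfl | rfl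
  · exact Or.inl (P.root.injective (by rw [hroot, one_smul]))
  · exact Or.inr (Or.inr (Or.inl (P.root.injective (by rw [hroot, root_refl_self, neg_smul, one_smul]))))
  · exact Or.inr (Or.inl (P.root.injective (by rw [hroot, hab])))
  · exact Or.inr (Or.inr (Or.inr (P.root.injective (by rw [hroot, root_refl_self, hab, neg_smul]))))

theorem not_root_triple (hab : P.root b = (2 : ℤ) • P.root a) :
    P.root (P.reflectionPerm a a) + P.root (P.reflectionPerm b b) ≠ 0 ∧
      P.root (P.reflectionPerm a a) + P.root (P.reflectionPerm b b) ∉ Set.range P.root ∧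
      P.root a + P.root b ≠ 0 ∧ P.root a + P.root b ∉ Set.range P.root := by
  have hsum : P.root a + P.root b = (3 : ℤ) • P.root a := by
    rw [hab, show (3 : ℤ) = 1 + 2 from rfl, add_smul, one_smul]
  have hsum' : P.root (P.reflectionPerm a a) + P.root (P.reflectionPerm b b) = (-3 : ℤ) • P.root a := by
    rw [root_refl_self, root_refl_self, ← neg_add, hsum, neg_smul]
  have key : ∀ z : ℤ, z = 3 ∨ z = -3 → z • P.root a ∉ Set.range P.root := by
    rintro z hz ⟨c, hc⟩
    have h := eq_of_dep P hab (c := c) (z := 2 * z) (by rw [hc, smul_smul])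
    have hne : P.root a ≠ 0 := fun e => by
      have := P.pairing_same a
      rw [← P.root_coroot'_eq_pairing, e, map_zero] at this
      omega
    rcases h with rfl | rfl | rfl | rfl
    all_goals first | rw [root_refl_self, hab, ← neg_smul] at hc | rw [root_refl_self] at hc | rw [hab] at hc | skip
    all_goals first
      | (have := smul_left_injective ℤ hne hc; omega)
      | (have := smul_left_injective ℤ hne ((one_smul ℤ _).trans hc); omega)
      | (have := smul_left_injective ℤ hne ((neg_one_smul ℤ _).trans hc); omega)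
  have hne0 : ∀ z : ℤ, z ≠ 0 → z • P.root a ≠ 0 := fun z hz e => by
    have := congrArg (P.coroot' a) e
    rw [map_smul, P.root_coroot'_eq_pairing, P.pairing_same, map_zero, smul_eq_mul] at this
    omega
  rw [hsum, hsum']
  exact ⟨hne0 _ (by norm_num), key _ (Or.inr rfl), hne0 _ (by norm_num), key _ (Or.inl rfl)⟩

/-- A functional singular exactly along the multiples of `a`, zero or onto. -/
theorem exists_singular [Finite idx] [Module.Finite ℤ M] [Module.Free ℤ M] (hab : P.root b = (2 : ℤ) • P.root a) :
    ∃ lam : M →+ ℤ, lam (P.root a) = 0 ∧ (lam = 0 ∨ ∃ m, lam m = 1) ∧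
      ∀ c, lam (P.root c) = 0 → c = a ∨ c = b ∨ c = P.reflectionPerm a a ∨ c = P.reflectionPerm b b := by
  let π : M →ₗ[ℤ] M := (2 : ℤ) • LinearMap.id - (P.coroot' a).smulRight (P.root a)
  have hπ : ∀ x, π x = (2 : ℤ) • x - P.coroot' a x • P.root a := fun x => by simp [π]; module
  obtain ⟨l, hl⟩ := exists_functional fun c => π (P.root c)
  have hdep : ∀ c, π (P.root c) = 0 → c = a ∨ c = b ∨ c = P.reflectionPerm a a ∨ c = P.reflectionPerm b b :=
    fun c hc => eq_of_dep P hab (z := P.coroot' a (P.root c)) (by rwa [hπ, sub_eq_zero] at hc)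
  let f := l ∘ₗ π
  have hfa : f (P.root a) = 0 := by
    simp [f, hπ, P.root_coroot'_eq_pairing]
  by_cases h0 : f = 0
  · refine ⟨0, rfl, Or.inl rfl, fun c _ => hdep c ?_⟩
    by_contra hne
    exact hl c hne (show f (P.root c) = 0 by rw [h0]; rfl)
  obtain ⟨d, hd⟩ := (IsPrincipalIdealRing.principal (LinearMap.range f)).1
  have hd0 : d ≠ 0 := fun e => h0 (LinearMap.ext fun x => by
    have : f x ∈ Submodule.span ℤ {d} := hd ▸ LinearMap.mem_range_self f x
    rw [e, Submodule.span_zero_singleton, Submodule.mem_bot] at this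
    simpa using this)
  have hdvd : ∀ x, ∃ q, f x = q * d := fun x => by
    have : f x ∈ Submodule.span ℤ {d} := hd ▸ LinearMap.mem_range_self f x
    obtain ⟨q, hq⟩ := Submodule.mem_span_singleton.1 this
    exact ⟨q, by rw [← hq, smul_eq_mul]⟩
  choose q hq using hdvd
  refine ⟨AddMonoidHom.mk' q fun x y => mul_right_cancel₀ hd0 (by rw [add_mul, ← hq, ← hq, ← hq, map_add]),
    ?_, Or.inr ?_, fun c hc => hdep c ?_⟩
  · exact (mul_eq_zero.1 ((hq (P.root a)).symm.trans hfa)).resolve_right hd0
  · have : d ∈ LinearMap.range f := hd ▸ Submodule.mem_span_singleton_self d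
    obtain ⟨m, hm⟩ := this
    exact ⟨m, mul_right_cancel₀ hd0 (by rw [_root_.one_mul]; exact (hq m).symm.trans hm)⟩
  · by_contra hne
    refine hl c hne (show f (P.root c) = 0 from ?_)
    rw [hq, show q (P.root c) = 0 from hc, zero_mul]

end Groth.Agent.H82.Reduced
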